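import Mathlib
import Cfsg.Agent.OddHalf.D9.EEight.Id.Main
import Cfsg.Agent.TwoF.Gen.BLay_m3
import Cfsg.Agent.Omega.Lie.HeisCover
import Cfsg.Agent.H570.LinDim
import Cfsg.Agent.H859.Heis
import Cfsg.Agent.S0215
import Cfsg.Agent.Mrg.Omega.Quasithin.Row.E27
import Cfsg.Agent.TwoF.SpO.Prod
import Cfsg.Agent.TAB.F22.FxA_m3
import Cfsg.Agent.TAB.ON.Op
import Cfsg.Agent.H96.Rad2.GTwoThree
import Cfsg.Agent.Lib.PackAll
import Cfsg.Agent.H134.Syl.F4TwoMain_m3
import Cfsg.Agent.SP.Iface_m3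
import Cfsg.Agent.H452.FprSz
import Cfsg.Agent.S0325
import Cfsg.Agent.S0330
import Cfsg.Agent.S2126
import Cfsg.Agent.Lib.Zsigmondy
import Cfsg.Agent.H270.Crit.Base
import Cfsg.Agent.H974.Gs.RowFin_mg_m3
import Cfsg.Agent.H915.Gs.SLThree_m3
import Cfsg.Agent.FastGrp
import Cfsg.Agent.Prune
set_option linter.all false

section
prune_inst 0x7fb1fef999a83ddeffff7e3ffedcdffc01808fffefdff94bffe0e3bf2bdf23000be5fb8f0de050fc1e56603c10b87803fb7eceffe06bdc7ffffd5ff41ffbee0fe5f7b50971d49c341fbc2fff83f0778e7f3fffffffffffffffffffffffffffbeffbfffffffff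

-- part: OddHalf/D9/EEight/Id/InnerCore
section
set_option linter.all false
open scoped Cfsg.Agent.FastGrp

-- part: OddHalf/D9/EEight/Id/Letters
section
/-!
# The universal 2-cover of `Ω₈⁺(2)`: letters and the three homomorphisms onto `K₀`
-/

set_option autoImplicit false

namespace Cfsg.Agent.OddHalf.D9.EEight.Id.Letters

open Subgroup Cfsg.Agent.OddHalf.D9.EEight Cfsg.Agent.OddHalf.D9.EEight.Id.Gen
open Cfsg.Agent.OddHalf.D9.EEight.Id.ModTwo Cfsg.Agent.OddHalf.D9.EEight.Id.Onto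
open Cfsg.Agent.OddHalf.D9.EEight.Id.Homs Cfsg.Agent.OddHalf.D9.EEight.Id.Main
open Cfsg.Agent.SporadicRecognition.CosetCert Cfsg.Agent.KFacts.OddLift.Basic

/-- three homomorphisms with given values on generators -/
theorem exists_homs {L X K : Type*} [Group L] [Finite L] [Group X] [Group K] {B : ℕ → L} {k1 k2 k3 : ℕ → K}
    (hgen : Subgroup.closure {x | ∃ i < 7, B i = x} = ⊤)
    (hB : ∀ r ∈ Bound.rels, ev (lt B 7) r = 1) (h1 : ∀ r ∈ Bound.rels, ev (lt k1 7) r = 1)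
    (h2 : ∀ r ∈ Bound.rels, ev (lt k2 7) r = 1) (h3 : ∀ r ∈ Bound.rels, ev (lt k3 7) r = 1)
    (hL : 696729600 ≤ Nat.card L) :
    ∃ q1 q2 q3 : L →* K, ∀ i < 7, q1 (B i) = k1 i ∧ q2 (B i) = k2 i ∧ q3 (B i) = k3 i := by
  set b : ℕ → L × K × K × K := fun i => (B i, k1 i, k2 i, k3 i) with hb
  have e0 : ∀ r, (ev (lt b 7) r).1 = ev (lt B 7) r := fun r => map_ev_lt b 7 (MonoidHom.fst L (K × K × K)) r
  have e1 : ∀ r, (ev (lt b 7) r).2.1 = ev (lt k1 7) r := fun r =>
    map_ev_lt b 7 ((MonoidHom.fst K (K × K)).comp (MonoidHom.snd L (K × K × K))) r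
  have e2 : ∀ r, (ev (lt b 7) r).2.2.1 = ev (lt k2 7) r := fun r =>
    map_ev_lt b 7 ((MonoidHom.fst K K).comp ((MonoidHom.snd K (K × K)).comp (MonoidHom.snd L (K × K × K)))) r
  have e3 : ∀ r, (ev (lt b 7) r).2.2.2 = ev (lt k3 7) r := fun r =>
    map_ev_lt b 7 ((MonoidHom.snd K K).comp ((MonoidHom.snd K (K × K)).comp (MonoidHom.snd L (K × K × K)))) r
  have hrel : ∀ r ∈ Bound.rels, ev (lt b 7) r = 1 := by
    intro r hr
    refine Prod.ext ?_ (Prod.ext ?_ (Prod.ext ?_ ?_))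
    · rw [e0, hB r hr]; rfl
    · rw [e1, h1 r hr]; rfl
    · rw [e2, h2 r hr]; rfl
    · rw [e3, h3 r hr]; rfl
  obtain ⟨hfin, hcard⟩ := Bound.bound hrel
  let p : Bound.S b 7 →* L := (MonoidHom.fst L (K × K × K)).comp (Bound.S b 7).subtype
  have hp : ∀ i < 7, p (Sub.bD b i) = B i := by
    intro i hi
    change (Sub.bD b i : L × K × K × K).1 = B i
    rw [Sub.coe_bD b hi]
  have hs : Function.Surjective p := by
    rw [← MonoidHom.range_eq_top, eq_top_iff, ← hgen, closure_le]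
    rintro _ ⟨i, hi, rfl⟩
    exact ⟨Sub.bD b i, hp i hi⟩
  let e : Bound.S b 7 ≃* L := MulEquiv.ofBijective p (hs.bijective_of_nat_card_le (hcard.trans hL))
  have he : ∀ i < 7, e.symm (B i) = Sub.bD b i := by
    intro i hi
    rw [MulEquiv.symm_apply_eq]
    exact (hp i hi).symm
  refine ⟨(((MonoidHom.fst K (K × K)).comp (MonoidHom.snd L (K × K × K))).comp (Bound.S b 7).subtype).comp
      e.symm.toMonoidHom,
    (((MonoidHom.fst K K).comp ((MonoidHom.snd K (K × K)).comp (MonoidHom.snd L (K × K × K)))).comp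
      (Bound.S b 7).subtype).comp e.symm.toMonoidHom,
    (((MonoidHom.snd K K).comp ((MonoidHom.snd K (K × K)).comp (MonoidHom.snd L (K × K × K)))).comp
      (Bound.S b 7).subtype).comp e.symm.toMonoidHom, ?_⟩
  intro i hi
  have h : ((e.symm (B i) : Bound.S b 7) : L × K × K × K) = b i := by
    rw [he i hi, Sub.coe_bD b hi]
  refine ⟨?_, ?_, ?_⟩
  · change ((e.symm (B i) : Bound.S b 7) : L × K × K × K).2.1 = k1 i
    rw [h]
  · change ((e.symm (B i) : Bound.S b 7) : L × K × K × K).2.2.1 = k2 i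
    rw [h]
  · change ((e.symm (B i) : Bound.S b 7) : L × K × K × K).2.2.2 = k3 i
    rw [h]

/-- **The letters of the universal 2-cover**: `B i` of odd order over `x i`, generators, and three homomorphisms -/
theorem exists_letters {L : Type*} [Group L] {π : L →* ClassicalGeometry.OrthAut1.P Q} (hπ : Cov π)
    (h4 : Nat.card π.ker = 4) :
    ∃ (B : ℕ → L) (q1 q2 q3 : L →* K₀), (∀ i, Odd (orderOf (B i))) ∧
      Subgroup.closure {x | ∃ i < 7, B i = x} = ⊤ ∧
      (∀ i < 7, q1 (B i) = toK b1 rel1 i ∧ q2 (B i) = toK b2 rel2 i ∧ q3 (B i) = toK b3 rel3 i) ∧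
      ∀ y, pi1 (q1 y) = π y := by
  obtain ⟨B, hB, hBo⟩ := hπ.exists_lifts odd_x
  have hgen := hπ.closure_eq_top hB closure_x
  have hrel : ∀ r ∈ Bound.rels, ev (lt B 7) r = 1 := fun r hr =>
    hπ.ev_eq_one hB hBo (odd := []) (by simp) (okr_rels r hr) (rel_x r hr)
  have := Main.finite_L hπ
  have hL : 696729600 ≤ Nat.card L := by
    have h := card_mul_index π.ker
    rw [index_ker, MonoidHom.range_eq_top.2 hπ.surj, card_top, h4, card_P] at h
    rw [← h]
  obtain ⟨q1, q2, q3, hq⟩ := exists_homs (X := ClassicalGeometry.OrthAut1.P Q) hgen hrel (rel_toK rel1)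
    (rel_toK rel2) (rel_toK rel3) hL
  refine ⟨B, q1, q2, q3, hBo, hgen, hq, ?_⟩
  have h : pi1.comp q1 = π := by
    apply MonoidHom.eq_of_eqOn_dense hgen
    rintro _ ⟨i, hi, rfl⟩
    change pi1 (q1 (B i)) = π (B i)
    rw [(hq i hi).1, hB]
    rfl
  intro y
  rw [← h]
  rfl

theorem q1_surj {L : Type*} [Group L] {B : ℕ → L} {q1 : L →* K₀}
    (hq : ∀ i < 7, q1 (B i) = toK b1 rel1 i) : Function.Surjective q1 := by
  rw [← MonoidHom.range_eq_top, eq_top_iff, ← closure_k1, closure_le]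
  rintro _ ⟨i, hi, rfl⟩
  exact ⟨B i, hq i hi⟩

/-- values of words -/
theorem map_word {L : Type*} [Group L] {B : ℕ → L} {q : L →* K₀} {b : ℕ → W}
    (h : ∀ r ∈ Bound.rels, ev (lt b 7) r = 1) (hq : ∀ i < 7, q (B i) = toK b h i) (w : List ℕ) :
    ((q (ev (lt B 7) w) : K₀) : W) = ev (lt b 7) w := by
  rw [map_ev_lt, Sub.ev_congr hq, coe_ev_toK]

end Cfsg.Agent.OddHalf.D9.EEight.Id.Letters
end

-- part: OddHalf/D9/EEight/Id/InnerCore
section
/-!
# The core of innerness for `2².Ω₈⁺(2)`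
-/

set_option autoImplicit false

namespace Cfsg.Agent.OddHalf.D9.EEight.Id.InnerCore

open Subgroup Cfsg.Agent.OddHalf.D9.EEight Cfsg.Agent.OddHalf.D9.EEight.Id.Gen
open Cfsg.Agent.OddHalf.D9.EEight.Id.ModTwo Cfsg.Agent.OddHalf.D9.EEight.Id.Onto
open Cfsg.Agent.OddHalf.D9.EEight.Id.Homs Cfsg.Agent.OddHalf.D9.EEight.Id.Main
open Cfsg.Agent.OddHalf.D9.EEight.Id.Letters Cfsg.Agent.OddHalf.D9.EEight.Id.HomData
open Cfsg.Agent.SporadicRecognition.CosetCert Cfsg.Agent.KFacts.OddLift.Basic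

theorem s_comm {i j : Fin 8} (h : GM i j = 0) (h' : GM j i = 0) : s i * s j = s j * s i := by
  apply ext_ap
  intro x
  rw [ap_mul, ap_mul, ap_s, ap_s, ap_s, ap_s, form_sub_left, form_sub_left, form_smul_left, form_smul_left,
    form_e_e, form_e_e, h, h', mul_zero, mul_zero, sub_zero, sub_zero]
  abel

theorem s_inv (i : Fin 8) : (s i)⁻¹ = s i := inv_eq_of_mul_eq_one_right (s_mul_s i)

theorem conj_t {k : Fin 7} (h1 : GM 0 (edg k).1 = 0) (h1' : GM (edg k).1 0 = 0) (h2 : GM 0 (edg k).2 = 0)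
    (h2' : GM (edg k).2 0 = 0) : s 0 * t k * (s 0)⁻¹ = t k := by
  unfold t
  rw [← mul_assoc, s_comm h1 h1', mul_assoc (s _) (s 0), s_comm h2 h2', ← mul_assoc, mul_inv_cancel_right]

theorem conj_t_zero : s 0 * t 0 * (s 0)⁻¹ = (t 0)⁻¹ := by
  have h : t 0 = s 0 * s 2 := rfl
  rw [h, mul_inv_rev, s_inv, s_inv, ← mul_assoc, s_mul_s, one_mul]

theorem conj_b1 {i : ℕ} (hi : i = 2 ∨ i = 3 ∨ i = 5 ∨ i = 6) : s 0 * b1 i * (s 0)⁻¹ = b1 i := by
  rcases hi with rfl | rfl | rfl | rfl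
  · exact conj_t (k := 2) (by decide) (by decide) (by decide) (by decide)
  · exact conj_t (k := 3) (by decide) (by decide) (by decide) (by decide)
  · exact conj_t (k := 5) (by decide) (by decide) (by decide) (by decide)
  · exact conj_t (k := 6) (by decide) (by decide) (by decide) (by decide)

theorem conj_b1_zero : s 0 * b1 0 * (s 0)⁻¹ = (b1 0)⁻¹ := conj_t_zero

/-- the second word -/
def w2' : List ℕ := (List.replicate 12 [1, 4, 12, 11, 6]).flatten

set_option maxRecDepth 100000 in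
theorem w2'_3 : ev (lt b3 7) w2' = neg := ev_of_isNeg tab3 (by decide +kernel)

theorem ev_flatten {G : Type*} [Group G] (g : ℕ → G) (l : List ℕ) (n : ℕ) :
    ev g (List.replicate n l).flatten = ev g l ^ n := by
  induction n with
  | zero => rw [List.replicate_zero, List.flatten_nil, ev_nil, pow_zero]
  | succ n ih => rw [List.replicate_succ, List.flatten_cons, ev_append, ih, pow_succ']

/-- the effect of the swap of the first letter -/
theorem ev_swap {G : Type*} [Group G] {B C : ℕ → G} (h0 : C 0 = (B 0)⁻¹) (h2 : C 2 = B 2) (h3 : C 3 = B 3)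
    (h5 : C 5 = B 5) (h6 : C 6 = B 6) : ev (lt C 7) w2 = ev (lt B 7) w2' := by
  unfold w2 w2'
  rw [ev_flatten, ev_flatten]
  congr 1
  have c0 : lt C 7 0 = C 0 := lt_even C 7 (by omega) (by omega)
  have c4 : lt C 7 4 = C 2 := lt_even C 7 (by omega) (by omega)
  have c12 : lt C 7 12 = C 6 := lt_even C 7 (by omega) (by omega)
  have c11 : lt C 7 11 = (C 5)⁻¹ := lt_odd C 7 (by omega) (by omega)
  have c6 : lt C 7 6 = C 3 := lt_even C 7 (by omega) (by omega)
  have d1 : lt B 7 1 = (B 0)⁻¹ := lt_odd B 7 (by omega) (by omega)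
  have d4 : lt B 7 4 = B 2 := lt_even B 7 (by omega) (by omega)
  have d12 : lt B 7 12 = B 6 := lt_even B 7 (by omega) (by omega)
  have d11 : lt B 7 11 = (B 5)⁻¹ := lt_odd B 7 (by omega) (by omega)
  have d6 : lt B 7 6 = B 3 := lt_even B 7 (by omega) (by omega)
  simp only [ev_cons, ev_nil, c0, c4, c12, c11, c6, d1, d4, d12, d11, d6, h0, h2, h3, h5, h6]

/-- the automorphism induced on a quotient -/
theorem exists_bar {K E : Type*} [Group K] [Group E] {f : K →* E} (hs : Function.Surjective f) (φ : MulAut K)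
    (hφ : ∀ z ∈ f.ker, φ z = z) : ∃ β : MulAut E, ∀ k, β (f k) = f (φ k) := by
  have hchar : (f.ker).map φ.toMonoidHom = f.ker := by
    apply le_antisymm
    · rintro _ ⟨z, hz, rfl⟩
      show φ z ∈ f.ker
      rw [hφ z hz]
      exact hz
    · intro z hz
      exact ⟨z, hz, hφ z hz⟩
  let e : K ⧸ f.ker ≃* E := QuotientGroup.quotientKerEquivOfSurjective f hs
  have he : ∀ k : K, e (QuotientGroup.mk k) = f k := fun k => rfl
  let c : K ⧸ f.ker ≃* K ⧸ f.ker := QuotientGroup.congr f.ker f.ker φ hchar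
  refine ⟨(e.symm.trans c).trans e, fun k => ?_⟩
  show e (c (e.symm (f k))) = f (φ k)
  rw [← he k, e.symm_apply_apply]
  rfl

/-- **An automorphism of the universal 2-cover, trivial on the kernel, is inner modulo the kernel.** -/
theorem inner_bar (hAut : ∀ α : MulAut K₀, ∃ w : W, ∀ k : K₀, (α k : W) = w * k * w⁻¹) {L : Type*} [Group L]
    {π : L →* ClassicalGeometry.OrthAut1.P Q} (hπ : Cov π) (h4 : Nat.card π.ker = 4) (α : MulAut L)
    (hα : ∀ z ∈ π.ker, α z = z) : ∃ x, ∀ y, π (α y) = x * π y * x⁻¹ := by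
  obtain ⟨B, q1, q2, q3, hBo, -, hq, hpi⟩ := exists_letters hπ h4
  have hs := q1_surj fun i hi => (hq i hi).1
  have hker : ∀ z ∈ q1.ker, z ∈ π.ker := by
    intro z hz
    rw [MonoidHom.mem_ker, ← hpi, MonoidHom.mem_ker.1 hz, map_one]
  obtain ⟨β, hβ⟩ := exists_bar hs α fun z hz => hα z (hker z hz)
  obtain ⟨w, hw⟩ := hAut β
  rcases Int.units_eq_one_or (det w) with hd | hd
  · refine ⟨pi1 ⟨w, hd⟩, fun y => ?_⟩
    have h1 : q1 (α y) = ⟨w, hd⟩ * q1 y * (⟨w, hd⟩ : K₀)⁻¹ := by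
      rw [← hβ]
      exact Subtype.ext (hw (q1 y))
    rw [← hpi, h1, map_mul, map_mul, map_inv, hpi]
  · exfalso
    have hdu : det ((s 0)⁻¹ * w) = 1 := by
      rw [map_mul, map_inv, det_s, hd]
      decide
    obtain ⟨k, hk⟩ := hs ⟨(s 0)⁻¹ * w, hdu⟩
    set φ : L →* L := α.toMonoidHom.comp (MulAut.conj k⁻¹).toMonoidHom with hφ
    have hφa : ∀ y, φ y = α (k⁻¹ * y * k) := fun y => by
      show α (k⁻¹ * y * k⁻¹⁻¹) = _
      rw [inv_inv]
    have h1 : ∀ y, ((q1 (φ y) : K₀) : W) = s 0 * (q1 y : W) * (s 0)⁻¹ := by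
      intro y
      rw [hφa, ← hβ, hw]
      simp only [map_mul, map_inv, hk]
      show w * (((s 0)⁻¹ * w)⁻¹ * (q1 y : W) * ((s 0)⁻¹ * w)) * w⁻¹ = _
      group
    have ho : ∀ i, Odd (orderOf (φ (B i))) := fun i =>
      Odd.of_dvd_nat (hBo i) (orderOf_map_dvd φ (B i))
    have hc : ∀ {i : ℕ} {c : L}, i < 7 → Odd (orderOf c) → (q1 c : W) = s 0 * b1 i * (s 0)⁻¹ → φ (B i) = c := by
      intro i c hi hco hqc
      refine hπ.eq_of_odd (ho i) hco ?_
      rw [← hpi, ← hpi]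
      congr 1
      apply Subtype.ext
      rw [h1, hqc, (hq i hi).1, coe_toK rel1 hi]
    have hB0 : φ (B 0) = (B 0)⁻¹ := hc (by omega) (by rw [orderOf_inv]; exact hBo 0) (by
      rw [conj_b1_zero, map_inv, (hq 0 (by omega)).1, Subgroup.coe_inv, coe_toK rel1 (by omega)])
    have hBi : ∀ i, i = 2 ∨ i = 3 ∨ i = 5 ∨ i = 6 → φ (B i) = B i := fun i hi =>
      hc (by omega) (hBo i) (by rw [conj_b1 hi, (hq i (by omega)).1, coe_toK rel1 (by omega)])
    set n := ev (lt B 7) w2 with hn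
    have hq1 : q1 n = negK := Subtype.ext (by
      rw [hn, map_word rel1 fun i hi => (hq i hi).1]
      exact w2_1)
    have hnk : n ∈ π.ker := by
      rw [MonoidHom.mem_ker, ← hpi, hq1]
      exact pi1_eq_one.2 (Or.inr rfl)
    have hφn : φ n = n := by
      have h2 := mem_center_iff.1 (hπ.central hnk) k⁻¹
      rw [hφa, h2, inv_mul_cancel_right, hα n hnk]
    have hφn' : φ n = ev (lt B 7) w2' := by
      rw [hn, map_ev_lt]
      exact ev_swap hB0 (hBi 2 (Or.inl rfl)) (hBi 3 (by omega)) (hBi 5 (by omega)) (hBi 6 (by omega))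
    have h3 : ((q3 n : K₀) : W) = 1 := by
      rw [hn, map_word rel3 fun i hi => (hq i hi).2.2]
      exact w2_3
    have h5 : ((q3 n : K₀) : W) = neg := by
      rw [← hφn, hφn', map_word rel3 fun i hi => (hq i hi).2.2]
      exact w2'_3
    exact neg_ne_one (h5.symm.trans h3)

end Cfsg.Agent.OddHalf.D9.EEight.Id.InnerCore
end
end

-- part: TwoF/XS/Defs
section
set_option linter.all false

/-!
# TwoF / XS: symplectic and orthogonal groups in cross characteristic, the small rows (helper85).  Plan: `notes/TwoF/xs.md`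
-/

set_option autoImplicit false

namespace Cfsg.Agent.TwoF.XS

/-- `p = 2`, `q` odd -/
def P2 : Prop :=
  ∀ (F : Type) [Field F] [Fintype F] (m : ℕ),
    (m = 2 ∧ (Fintype.card F = 5 ∨ Fintype.card F = 7 ∨ Fintype.card F = 9 ∨ Fintype.card F = 11)) ∨
      (m = 3 ∧ (Fintype.card F = 3 ∨ Fintype.card F = 5)) ∨ ((m = 4 ∨ m = 5) ∧ Fintype.card F = 3) →
    Row 2 (PSp m F)

/-- `Sp₆(2)`, `p = 3` -/
def Sp62 : Prop := ∀ (F : Type) [Field F] [Fintype F], Fintype.card F = 2 → Row88 3 (PSp 3 F)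

/-- `Sp₈(2)`, ..., `Sp₁₄(2)` -/
def Sp2 : Prop :=
  ∀ (p : ℕ) [Fact p.Prime] (F : Type) [Field F] [Fintype F] (m : ℕ), Fintype.card F = 2 → 4 ≤ m → m ≤ 7 →
    p = 3 ∨ p = 5 → Row88 p (PSp m F)

/-- `p = 5`, Sylow subgroups of order `25` -/
def Five : Prop :=
  ∀ (p : ℕ) [Fact p.Prime] (F : Type) [Field F] [Fintype F], p = 5 →
    (Fintype.card F = 4 ∨ Fintype.card F = 7 → Row88 p (PSp 2 F)) ∧ (Fintype.card F = 3 → Row88 p (PSp 4 F)) ∧
      (Fintype.card F = 2 → Row88 p (POmega F (quadFormPlus 4 F)))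

/-- `Ω₈⁻(2)`, `p = 3` -/
def O8m : Prop :=
  ∀ (F : Type) [Field F] [Fintype F] (a b : F), Fintype.card F = 2 →
    (∀ z₁ z₂ : F, z₁ ^ 2 + a * z₁ * z₂ + b * z₂ ^ 2 = 0 → z₁ = 0 ∧ z₂ = 0) →
      Row88 3 (POmega F (quadFormMinus 3 F a b))

/-- `Ω₈⁺(2)`, `p = 3` -/
def O8p : Prop := ∀ (F : Type) [Field F] [Fintype F], Fintype.card F = 2 → Row 3 (POmega F (quadFormPlus 4 F))

/-- `Ω₇(3)`, `p = 2` -/
def O73 : Prop := ∀ (F : Type) [Field F] [Fintype F], Fintype.card F = 3 → Row 2 (POmega F (quadFormOdd 3 F))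

/-- the small rows -/
structure Small : Prop where
  p2 : P2
  sp62 : Sp62
  sp2 : Sp2
  five : Five
  o8m : O8m
  o8p : O8p
  o73 : O73

/-- the four boxes -/
structure Four : Prop where
  psp : Box fun K _ => IsPSp K
  oodd : Box fun K _ => IsPOmegaOdd K
  oplus : Box fun K _ => IsPOmegaPlus K
  ominus : Box fun K _ => IsPOmegaMinus K

/-- the reduction -/
def Red : Prop := Small → Four

end Cfsg.Agent.TwoF.XS
end

-- part: TwoF/XS/Red/Dt
section
prune_inst 0x4e01046617c20000000040012100023a56500010000200001f1840d42080ff300804201004a803c1a084c328010050008131000b0420000000a0034000007012080aa000030100c04240007803087100000000000000000000000000000041004000000000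
set_option linter.all false
open scoped Cfsg.Agent.FastGrp

/-!
# TwoF / XS, the reduction (1): numerical data of a group, the checks (helper23)
-/

set_option autoImplicit false

namespace Cfsg.Agent.TwoF.XS.Red

open Cfsg.Agent.TwoF.XE Cfsg.Agent.TwoF.Gen

variable {p : ℕ} [Fact p.Prime] {S : Type} [Group S]

/-- one may assume that the centre is trivial -/
theorem row_of_center [IsSimpleGroup S] (h : Subgroup.center S = ⊥ → Row p S) : Row p S := by
  rcases (Subgroup.normal_of_characteristic (Subgroup.center S)).eq_bot_or_eq_top with e | e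
  · exact h e
  refine NoOff.row (noOff_of_sit fun _ _ _ _ _ _ _ K _ π _ H _ _ => ?_)
  have h1 : commutator S = ⊥ := by
    rw [commutator_def, Subgroup.commutator_eq_bot_iff_le_centralizer, Subgroup.coe_top, Subgroup.centralizer_univ, e]
  have h2 := map_commutator_eq K π
  rw [H.toStp.perfect.commutator_eq_top, ← MonoidHom.range_eq_map, MonoidHom.range_eq_top.2 H.surj, ← commutator_def,
    h1] at h2
  exact top_ne_bot h2

/-- dimension bound `d`, multiplier `z`, order `s`, order `o` of `Out` -/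
structure Dt (p : ℕ) [Fact p.Prime] (S : Type) [Group S] (d z s o : ℕ) : Prop where
  lb : LB p S d
  mult : ∀ (K : Type) [Group K] [Finite K] (π : K →* S), IsStemExtension π → Nat.card π.ker ∣ z
  z_pos : 0 < z
  card : Nat.card S = s
  aut : Nat.card (MulAut S) = o * s
  ctr : Subgroup.center S = ⊥

/-- the check for a small prime -/
def ok (d z s o p : ℕ) : Bool :=
  ((z / z.gcd (p ^ z) * s * o.gcd (p ^ o)) ^ 2).blt (p ^ d) || ((o * s) % p ^ (small p + 1) != 0 && o % p != 0)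

/-- the check for all large primes -/
def big (d z s o : ℕ) : Bool := ((z * s * o) ^ 2).blt (24 ^ d) || (23).factorial % (o * s) == 0

theorem lb_zero : LB p S 0 := fun _ _ _ _ _ _ _ _ _ _ _ _ _ _ => Nat.zero_le _

theorem lb_of_mult {r d z : ℕ} (h : H912.Bd.Bd (ZMod p) r d S)
    (hz : ∀ (K : Type) [Group K] [Finite K] (π : K →* S), IsStemExtension π → Nat.card π.ker ∣ z)
    (hn : z.Coprime r) : LB p S d :=
  lb_of_bd h fun K _ _ π hπ _ => Nat.Coprime.coprime_dvd_left (hz K π hπ) hn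

namespace Dt

variable [Finite S] {d z s o : ℕ} (h : Dt p S d z s o)
include h

theorem out : Nat.card (Out S) = o := by
  have h1 := card_aut h.ctr
  rw [h.aut, ← h.card, mul_comm] at h1
  exact (Nat.eq_of_mul_eq_mul_left Nat.card_pos h1).symm

theorem row89 (ho : ¬ p ∣ o) : Row89 p S := row89_of_not_dvd (h.out ▸ ho)

theorem noOff (hlt : (z * s * o) ^ 2 < p ^ d) : NoOff p S :=
  noOff_of_LB h.lb (fun K _ _ π hπ _ => Nat.le_of_dvd h.z_pos (h.mult K π hπ)) h.card.le
    ((pow_factorization_le Nat.card_pos.ne').trans h.out.le) hlt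

theorem row_ok (hc : ok d z s o p = true) : Row p S := by
  have hp : p.Prime := Fact.out
  simp only [ok, Bool.or_eq_true, Bool.and_eq_true, Nat.blt_eq, bne_iff_ne, ne_eq, ← Nat.dvd_iff_mod_eq_zero] at hc
  rcases hc with hc | hc
  · refine (noOff_of_LB h.lb (fun K _ _ π hπ hK => Nat.le_of_dvd ?_ ?_) h.card.le (Nat.le_of_dvd ?_ ?_) hc).row
    · exact Nat.div_pos (Nat.gcd_le_left _ h.z_pos) (Nat.gcd_pos_of_pos_left _ h.z_pos)
    · refine Nat.Coprime.dvd_of_dvd_mul_left (m := z.gcd (p ^ z)) ?_ ?_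
      · exact Nat.Coprime.coprime_dvd_right (Nat.gcd_dvd_right _ _)
          (Nat.Coprime.pow_right _ ((Nat.Prime.coprime_iff_not_dvd hp).2 hK).symm)
      · rw [Nat.mul_div_cancel' (Nat.gcd_dvd_left _ _)]
        exact h.mult K π hπ
    · exact Nat.gcd_pos_of_pos_right _ (pow_pos hp.pos _)
    · rw [h.out]
      refine Nat.dvd_gcd (Nat.ordProj_dvd o p) (pow_dvd_pow p ?_)
      rcases Nat.eq_zero_or_pos o with rfl | h0
      · simp
      · exact (Nat.factorization_lt p h0.ne').le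
  · exact ⟨row88_of_not_dvd (h.aut ▸ hc.1), h.row89 hc.2⟩

theorem row_big (hc : big d z s o = true) (hp : 24 ≤ p) : Row p S := by
  simp only [big, Bool.or_eq_true, Nat.blt_eq, beq_iff_eq, ← Nat.dvd_iff_mod_eq_zero] at hc
  rcases hc with hc | hc
  · exact (h.noOff (hc.trans_le (Nat.pow_le_pow_left hp d))).row
  · refine (noOff_of_not_dvd fun e => ?_).row
    have := (Nat.Prime.dvd_factorial Fact.out).1 ((h.aut ▸ e).trans hc)
    omega

/-- the finite check -/
theorem row_or {r : ℕ} (hrp : r ≠ p) {E : ℕ → Prop} (hc : big d z s o = true ∧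
    ∀ t ∈ [2, 3, 5, 7, 11, 13, 17, 19, 23], t = r ∨ ok d z s o t = true ∨ E t) : Row p S ∨ E p := by
  by_cases hp : 24 ≤ p
  · exact Or.inl (h.row_big hc.1 hp)
  have h1 : p ∈ [2, 3, 5, 7, 11, 13, 17, 19, 23] := by
    have h2 : p.Prime := Fact.out
    have h3 : p < 24 := by omega
    revert h2
    interval_cases p <;> first | decide | norm_num
  rcases hc.2 p h1 with e | e | e
  · exact (hrp e.symm).elim
  · exact Or.inl (h.row_ok e)
  · exact Or.inr e

omit h in
theorem sq_le_two_pow {k : ℕ} (hk : 10 ≤ k) : 8 * (k + 1) ^ 2 + 2 ≤ 2 ^ k := by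
  induction k, hk using Nat.le_induction with
  | base => norm_num
  | succ n hn ih => rw [pow_succ 2]; nlinarith

/-- the generic case -/
theorem row_gen {q m : ℕ} (hq : 2 ≤ q) (hQ : 1024 ≤ q ^ m) (hx : z * s * o ≤ q ^ (2 * m ^ 2 + 2 * m))
    (hd : q ^ m ≤ 2 * d + 2) : Row p S := by
  have h1 : 2 ^ m ≤ q ^ m := Nat.pow_le_pow_left hq m
  rw [show 2 * m ^ 2 + 2 * m = m * (2 * m + 2) by ring, pow_mul] at hx
  generalize q ^ m = Q at *
  have h2 := Nat.lt_pow_succ_log_self one_lt_two Q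
  have h3 := Nat.pow_log_le_self 2 (show Q ≠ 0 by omega)
  have h4 : 10 ≤ Nat.log 2 Q := Nat.le_log_of_pow_le one_lt_two hQ
  have h5 : m ≤ Nat.log 2 Q := Nat.le_log_of_pow_le one_lt_two h1
  have h6 := sq_le_two_pow h4
  generalize Nat.log 2 Q = k at *
  refine (h.noOff (lt_of_le_of_lt (Nat.pow_le_pow_left hx 2) ?_)).row
  calc (Q ^ (2 * m + 2)) ^ 2 = Q ^ (4 * m + 4) := by rw [← pow_mul]; congr 1; ring
    _ < (2 ^ (k + 1)) ^ (4 * m + 4) := Nat.pow_lt_pow_left h2 (by omega)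
    _ ≤ 2 ^ d := by
      rw [← pow_mul]
      exact Nat.pow_le_pow_right two_pos (by nlinarith only [hd, h3, h5, h6])
    _ ≤ p ^ d := Nat.pow_le_pow_left (Fact.out : p.Prime).two_le d

end Dt

theorem prod_le (q m : ℕ) : ∏ i ∈ Finset.range m, (q ^ (2 * (i + 1)) - 1) ≤ q ^ (m ^ 2 + m) := by
  induction m with
  | zero => simp
  | succ n ih =>
    rw [Finset.prod_range_succ, show (n + 1) ^ 2 + (n + 1) = n ^ 2 + n + 2 * (n + 1) by ring, pow_add]
    exact Nat.mul_le_mul ih (Nat.sub_le _ _)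

theorem two_mul_le {r f : ℕ} (hr : 2 ≤ r) : 2 * f ≤ r ^ f := by
  refine le_trans ?_ (Nat.pow_le_pow_left hr f)
  rcases f with _ | f
  · simp
  · have := Nat.lt_two_pow_self (n := f)
    rw [pow_succ]; omega

/-- the range of the finite check -/
theorem small_range {r f m : ℕ} (hr : r.Prime) (hf : 1 ≤ f) (hm : 2 ≤ m) (h : (r ^ f) ^ m < 1024) :
    r ∈ [2, 3, 5, 7, 11, 13, 17, 19, 23, 29, 31] ∧ f < 5 ∧ m < 10 := by
  have h2 := hr.two_le
  have h3 : r ^ f < 32 := by
    by_contra h3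
    have := (Nat.pow_le_pow_left (not_lt.1 h3) 2).trans (Nat.pow_le_pow_right (by omega) hm)
    omega
  have h4 : r ≤ r ^ f := Nat.le_self_pow (by omega) r
  refine ⟨?_, ?_, ?_⟩
  · have h5 : r < 32 := by omega
    clear h h3 h4
    revert hr
    interval_cases r <;> first | decide | norm_num
  · by_contra h5
    have := (Nat.pow_le_pow_left h2 5).trans (Nat.pow_le_pow_right (by omega) (not_lt.1 h5))
    omega
  · by_contra h5
    have := (Nat.pow_le_pow_left (h2.trans h4) 10).trans (Nat.pow_le_pow_right (by omega) (not_lt.1 h5))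
    omega

end Cfsg.Agent.TwoF.XS.Red

private theorem dce_75e433a58092 : _root_.True := by
  try have : _root_.True := by simp only [_root_.Cfsg.Agent.TwoF.XS.Red.big.eq_1]
  try have : _root_.True := by simp only [_root_.Cfsg.Agent.TwoF.XS.Red.ok.eq_1]
  exact _root_.True.intro
end

-- part: TwoF/SpE/Lin
section
prune_inst 0x4601062655c0010000004001200003fc7f7000102006b0000c1c40d420c88ef4000020f208880341a0828028460310048111000b00000000000000400011d01a080ab4022b218ac04340007801004000000000000000000000000000000000004000000000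
set_option linter.all false
open scoped Cfsg.Agent.FastGrp

/-!
# TwoF / SP-E: fixed spaces of commuting elements of order three (helper95)

`dl ρ l`: the dimension of the space fixed by the elements of the list `l`; `rank2`, `third`, `two_le`; `heis_cod`;
`Tri.bound`: three commuting Heisenberg groups `3 ^ (1 + 2)` with centres `z, z c, z c²`; `LB.of_sub`, `lb_of_trivial`.
-/

set_option autoImplicit false

namespace Cfsg.Agent.TwoF.SpE

open Module Subgroup Cfsg.Agent.TwoF.Gen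

section dl

variable {k : Type*} [Field k] {Y : Type*} [Group Y] {V : Type*} [AddCommGroup V] [Module k V]
  {ρ : Representation k Y V}

/-- the space fixed by a list of elements -/
def fl (ρ : Representation k Y V) (l : List Y) : Submodule k V := fx ρ (_root_.Subgroup.closure {g | g ∈ l})

/-- its dimension -/
noncomputable def dl (ρ : Representation k Y V) (l : List Y) : ℕ := finrank k (fl ρ l)

theorem mem_fl {l : List Y} {v : V} : v ∈ fl ρ l ↔ ∀ g ∈ l, ρ g v = v := mem_fx_closure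

theorem fl_cons (g : Y) (l : List Y) : fl ρ (g :: l) = fl ρ l ⊓ fx ρ (zpowers g) := by
  ext v
  rw [Submodule.mem_inf, mem_fl, mem_fl, mem_fx_zpowers, List.forall_mem_cons, and_comm]

theorem dl_nil : dl ρ [] = finrank k V := by
  have : fl ρ [] = ⊤ := eq_top_iff.2 fun v _ => mem_fl.2 fun g hg => absurd hg List.not_mem_nil
  rw [dl, this, finrank_top]

theorem inv_fl (l : List Y) : Inv ρ (centralizer {g | g ∈ l}) (fl ρ l) := by
  intro b hb v hv
  rw [mem_fl] at hv ⊢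
  intro g hg
  rw [← rho_mul, mem_centralizer_iff.1 hb g hg, rho_mul, hv g hg]

theorem dl_conj (q : Y) (l : List Y) : dl ρ (l.map fun g => q * g * q⁻¹) = dl ρ l := by
  have h : fl ρ (l.map fun g => q * g * q⁻¹) = (fl ρ l).map (ρ q) := by
    rw [fl, fl, ← fx_conj, MonoidHom.map_closure]
    congr 2
    ext g
    simp only [List.mem_map, Set.mem_ofPred_eq, Set.mem_image]
    rfl
  rw [dl, h, finrank_map_rho, dl]

theorem dl_conj' {q a b : Y} {l : List Y} (h : q * a * q⁻¹ = b) (hl : ∀ g ∈ l, g * q = q * g) :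
    dl ρ (b :: l) = dl ρ (a :: l) := by
  rw [← dl_conj q (a :: l), List.map_cons, h]
  congr 2
  conv_lhs => rw [← List.map_id l]
  exact List.map_congr_left fun g hg => by rw [← hl g hg, mul_inv_cancel_right, id]

variable [FiniteDimensional k V]

theorem dl_le {l l' : List Y} (h : ∀ H : Subgroup Y, (∀ g ∈ l, g ∈ H) → ∀ g ∈ l', g ∈ H) : dl ρ l ≤ dl ρ l' :=
  Submodule.finrank_mono (fx_anti ((closure_le _).2 fun g hg => h _ (fun _ hg => _root_.Subgroup.subset_closure hg) g hg))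

theorem dl_sub {l l' : List Y} (h : l' ⊆ l) : dl ρ l ≤ dl ρ l' := dl_le fun _ hH g hg => hH g (h hg)

theorem dl_eq {l l' : List Y} (h : l' ⊆ l) (h' : l ⊆ l') : dl ρ l = dl ρ l' := le_antisymm (dl_sub h) (dl_sub h')

theorem dl_swap (a b : Y) (l : List Y) : dl ρ (a :: b :: l) = dl ρ (b :: a :: l) :=
  dl_eq (List.Perm.swap _ _ _).subset (List.Perm.swap _ _ _).subset

theorem le_cod_add {l : List Y} {B : Subgroup Y} (h : ∀ g ∈ l, g ∈ B) : finrank k V ≤ cod ρ B + dl ρ l := by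
  have h1 := cod_add (ρ := ρ) B
  have h2 : finrank k (fx ρ B) ≤ dl ρ l := Submodule.finrank_mono (fx_anti ((closure_le _).2 h))
  omega

theorem cod_add_dl (g : Y) : cod ρ (zpowers g) + dl ρ [g] = finrank k V := by
  have h : fl ρ [g] = fx ρ (zpowers g) := by
    ext v
    rw [mem_fl, mem_fx_zpowers, List.forall_mem_singleton]
  rw [dl, h, cod_add]

theorem cod_res (l : List Y) (g : centralizer {g | g ∈ l}) :
    cod (resOn ρ (inv_fl l)) (zpowers g) + dl ρ (g :: l) = dl ρ l := by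
  rw [cod_resOn, MonoidHom.map_zpowers, dl, fl_cons]
  exact codOn_add _ _

variable [Finite Y]

/-- two commuting elements of order three -/
theorem rank2 (hk : (3 : k) ≠ 0) {l : List Y} {y z : Y} (h : y * z = z * y) (hy : y ^ 3 = 1) (hz : z ^ 3 = 1)
    (hyl : ∀ g ∈ l, g * y = y * g) (hzl : ∀ g ∈ l, g * z = z * g) :
    dl ρ l + 3 * dl ρ (y :: z :: l) = dl ρ (z :: l) + dl ρ (y :: l) + dl ρ (y * z :: l) + dl ρ (y * z ^ 2 :: l) := by
  let y' : centralizer {g | g ∈ l} := ⟨y, mem_centralizer_iff.2 hyl⟩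
  let z' : centralizer {g | g ∈ l} := ⟨z, mem_centralizer_iff.2 hzl⟩
  have h1 := sum_cod_rank_two (ρ := resOn ρ (inv_fl l)) (y := y') (z := z') (Subtype.ext h) Nat.prime_three
    (by exact_mod_cast hk) (Subtype.ext hy) (Subtype.ext hz)
  have h2 : cod (resOn ρ (inv_fl l)) (zpowers z' ⊔ zpowers y') + dl ρ (y :: z :: l) = dl ρ l := by
    rw [cod_resOn, Subgroup.map_sup, MonoidHom.map_zpowers, MonoidHom.map_zpowers, dl, fl_cons, fl_cons, inf_assoc,
      ← fx_sup]
    exact codOn_add _ _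
  have h3 := cod_res (ρ := ρ) l z'
  have h4 := cod_res (ρ := ρ) l y'
  have h5 := cod_res (ρ := ρ) l (y' * z')
  have h6 := cod_res (ρ := ρ) l (y' * z' ^ 2)
  simp only [Finset.sum_range_succ, Finset.sum_range_zero, pow_zero, pow_one, mul_one, zero_add] at h1
  have h7 : ((y' * z' : centralizer {g | g ∈ l}) : Y) = y * z := rfl
  have h8 : ((y' * z' ^ 2 : centralizer {g | g ∈ l}) : Y) = y * z ^ 2 := rfl
  have h9 : (y' : Y) = y := rfl
  have h10 : (z' : Y) = z := rfl
  rw [h7] at h5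
  rw [h8] at h6
  rw [h9] at h4
  rw [h10] at h3
  omega

/-- a Heisenberg step -/
theorem third (hk : (3 : k) ≠ 0) {l : List Y} {x z q : Y} (h : x * z = z * x) (hx : x ^ 3 = 1) (hz : z ^ 3 = 1)
    (hq : q * z = z * q) (hqx : q * x * q⁻¹ = x * z) (hxl : ∀ g ∈ l, g * x = x * g) (hzl : ∀ g ∈ l, g * z = z * g)
    (hql : ∀ g ∈ l, g * q = q * g) : dl ρ l + 3 * dl ρ (z :: x :: l) = dl ρ (z :: l) + 3 * dl ρ (x :: l) := by
  have h1 := rank2 (ρ := ρ) hk h hx hz hxl hzl
  have h2 := dl_conj' (ρ := ρ) hqx hql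
  have h3 : dl ρ (x * z ^ 2 :: l) = dl ρ (x * z :: l) := dl_conj' (q := q) (by
    calc q * (x * z) * q⁻¹ = q * x * q⁻¹ * (q * z * q⁻¹) := by group
      _ = x * z ^ 2 := by rw [hqx, hq, mul_inv_cancel_right, mul_assoc, pow_two]) hql
  have h4 := dl_swap (ρ := ρ) x z l
  omega

end dl

section two

variable {Y : Type*} [Group Y] [Finite Y] {V : Type*} [AddCommGroup V] [Module (ZMod 2) V] [Finite V]
  {ρ : Representation (ZMod 2) Y V}

theorem ord_two : orderOf (2 : ZMod 3) = 2 := by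
  rw [orderOf_eq_iff (by norm_num)]
  refine ⟨by decide, fun m hm hm0 => ?_⟩
  interval_cases m
  decide

theorem three_ne : (3 : ZMod 2) ≠ 0 := by decide

theorem two_le {l : List Y} {c : Y} (hc : c ^ 3 = 1) (hcl : ∀ g ∈ l, g * c = c * g) (h : dl ρ (c :: l) ≠ dl ρ l) :
    dl ρ (c :: l) + 2 ≤ dl ρ l := by
  let c' : centralizer {g | g ∈ l} := ⟨c, mem_centralizer_iff.2 hcl⟩
  have h1 := cod_res (ρ := ρ) l c'
  have h2 : (c' : Y) = c := rfl
  rw [h2] at h1
  have h3 : resOn ρ (inv_fl l) c' ≠ 1 := by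
    intro h3
    have h4 : fx (resOn ρ (inv_fl l)) (zpowers c') = ⊤ := by
      rw [fx_eq_top_iff, zpowers_le]
      exact h3
    have h5 := cod_add (ρ := resOn ρ (inv_fl l)) (zpowers c')
    rw [h4, finrank_top] at h5
    omega
  have h4 := ord_le_cod_zpowers (ρ := resOn ρ (inv_fl l)) (z := c') Nat.prime_three (Subtype.ext hc)
    (by exact_mod_cast three_ne) h3
  rw [ZMod.card, Nat.cast_ofNat, ord_two] at h4
  omega

omit [Finite Y] in
theorem dl_ne {z : Y} (h : ρ z ≠ 1) : dl ρ [z] ≠ dl ρ [] := by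
  intro h1
  rw [dl_nil] at h1
  apply h
  ext v
  exact mem_fl.1 ((Submodule.eq_top_of_finrank_eq h1).ge Submodule.mem_top) z List.mem_cons_self

omit [Finite Y] in
/-- the Heisenberg bound for `[V, z]` -/
theorem heis_cod {n : ℕ} {z : Y} {x y : Fin n → Y} (h : Omega.Lie.Heis.Heis 3 n z x y) (hz : ρ z ≠ 1) :
    2 * 3 ^ n ≤ cod ρ (zpowers z) := by
  have hH : centralizer {z} ≤ normalizer (zpowers z : Set Y) := fun g hg =>
    centralizer_le_normalizer _ (by
      rw [mem_centralizer_iff] at hg ⊢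
      rintro _ ⟨m, rfl⟩
      exact ((show Commute z g from hg z rfl).zpow_left m).eq)
  have hU : Inv ρ (centralizer {z}) (cm ρ ⊤ (zpowers z)) := inv_cm hH (inv_top _)
  let z' : centralizer {z} := ⟨z, mem_centralizer_singleton_iff.2 rfl⟩
  have h1 : Omega.Lie.Heis.Heis 3 n z' (fun i => ⟨x i, mem_centralizer_singleton_iff.2 (h.zx i).symm⟩)
      (fun i => ⟨y i, mem_centralizer_singleton_iff.2 (h.zy i).symm⟩) :=
    ⟨h.prime, Subtype.ext h.zr, fun i => Subtype.ext (h.xr i), fun i => Subtype.ext (h.zx i),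
      fun i => Subtype.ext (h.zy i), fun i j => Subtype.ext (h.xx i j), fun i j hij => Subtype.ext (h.yx i j hij),
      fun i => Subtype.ext (h.conj i)⟩
  have h2 : resOn ρ hU z' ≠ 1 := by
    intro h2
    apply hz
    ext v
    refine eq_of_sub_one_sq (p := 2) h.zr (by norm_num) ?_
    exact congrArg Subtype.val (LinearMap.congr_fun h2 ⟨_, mem_cm (mem_zpowers z) Submodule.mem_top⟩)
  have h3 := h1.finrank_le (resOn ρ hU) (by exact_mod_cast three_ne) h2
  rwa [Nat.card_zmod, Nat.cast_ofNat, ord_two, ← cod_zpowers_eq_cm] at h3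

/-- three commuting Heisenberg groups with the centres `z, z c, z c²` -/
structure Tri (c σ : Y) (z x y : Fin 3 → Y) : Prop where
  c3 : c ^ 3 = 1
  z3 : ∀ i, z i ^ 3 = 1
  x3 : ∀ i, x i ^ 3 = 1
  cen : ∀ g, c * g = g * c
  zz : ∀ i j, z i * z j = z j * z i
  zx : ∀ i j, z i * x j = x j * z i
  zy : ∀ i j, z i * y j = y j * z i
  xx : ∀ i j, x i * x j = x j * x i
  xy : ∀ i j, i ≠ j → x i * y j = y j * x i
  conj : ∀ i, y i * x i * (y i)⁻¹ = x i * z i
  z1 : z 1 = z 0 * c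
  z2 : z 2 = z 0 * c ^ 2
  sz : σ * z 0 * σ⁻¹ = z 1

namespace Tri

variable {c σ : Y} {z x y : Fin 3 → Y}

omit [Finite Y] in
theorem dl_zz (h : Tri c σ z x y) {i j : Fin 3} (hij : i ≠ j) (l : List Y) :
    dl ρ (z j :: z i :: l) = dl ρ (c :: z i :: l) := by
  have e0 : ∀ i, ∃ n : ℕ, z i = z 0 * c ^ n := by
    intro i
    fin_cases i
    · exact ⟨0, by simp⟩
    · exact ⟨1, by simpa using h.z1⟩
    · exact ⟨2, h.z2⟩
  have c2 : (c ^ 2)⁻¹ = c := by rw [inv_eq_iff_mul_eq_one, ← pow_succ, h.c3]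
  have e1 : c = (z 0)⁻¹ * z 1 := by rw [h.z1, inv_mul_cancel_left]
  have e2 : c = ((z 0)⁻¹ * z 2)⁻¹ := by rw [h.z2, inv_mul_cancel_left, c2]
  have e3 : c = (z 1)⁻¹ * z 2 := by rw [h.z1, h.z2]; group
  refine le_antisymm (dl_le fun H hH g hg => ?_) (dl_le fun H hH g hg => ?_)
  · rcases List.mem_cons.1 hg with rfl | hg
    · have h1 := hH _ List.mem_cons_self
      have h2 := hH _ (List.mem_cons_of_mem _ List.mem_cons_self)
      fin_cases i <;> fin_cases j
      · exact absurd rfl hij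
      · exact e1 ▸ mul_mem (inv_mem h2) h1
      · exact e2 ▸ inv_mem (mul_mem (inv_mem h2) h1)
      · exact e1 ▸ mul_mem (inv_mem h1) h2
      · exact absurd rfl hij
      · exact e3 ▸ mul_mem (inv_mem h2) h1
      · exact e2 ▸ inv_mem (mul_mem (inv_mem h1) h2)
      · exact e3 ▸ mul_mem (inv_mem h1) h2
      · exact absurd rfl hij
    · exact hH _ (List.mem_cons_of_mem _ hg)
  · rcases List.mem_cons.1 hg with rfl | hg
    · have h1 := hH _ List.mem_cons_self
      have h2 := hH _ (List.mem_cons_of_mem _ List.mem_cons_self)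
      obtain ⟨n, hn⟩ := e0 i
      obtain ⟨m, hm⟩ := e0 j
      rw [hn] at h2
      rw [hm]
      exact mul_mem ((mul_mem_cancel_right (pow_mem h1 n)).1 h2) (pow_mem h1 m)
    · exact hH _ (List.mem_cons_of_mem _ hg)

theorem step (h : Tri c σ z x y) (j : Fin 3) {l : List Y} (hl : ∀ g ∈ l, (∃ i, g = z i) ∨ ∃ i, i ≠ j ∧ g = x i) :
    dl ρ l + 3 * dl ρ (z j :: x j :: l) = dl ρ (z j :: l) + 3 * dl ρ (x j :: l) := by
  refine third three_ne (h.zx j j).symm (h.x3 j) (h.z3 j) (h.zy j j).symm (h.conj j) (fun g hg => ?_)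
    (fun g hg => ?_) (fun g hg => ?_) <;> rcases hl g hg with ⟨i, rfl⟩ | ⟨i, hi, rfl⟩
  · exact h.zx _ _
  · exact h.xx _ _
  · exact h.zz _ _
  · exact (h.zx _ _).symm
  · exact h.zy _ _
  · exact h.xy _ _ hi

/-- the step on the fixed space of `z i` -/
theorem step' (h : Tri c σ z x y) {i j : Fin 3} (hij : i ≠ j) {l : List Y} (hl : ∀ g ∈ l, ∃ m, m ≠ j ∧ g = x m) :
    dl ρ (z i :: l) + 3 * dl ρ (c :: z i :: x j :: l) = dl ρ (c :: z i :: l) + 3 * dl ρ (z i :: x j :: l) := by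
  have h1 := h.step (ρ := ρ) j (l := z i :: l) fun g hg =>
    (List.mem_cons.1 hg).elim (fun e => Or.inl ⟨i, e⟩) fun hg => Or.inr (hl g hg)
  have h2 := h.dl_zz (ρ := ρ) hij l
  have h3 := h.dl_zz (ρ := ρ) hij (x j :: l)
  have h4 := dl_swap (ρ := ρ) (x j) (z i) l
  have h5 : dl ρ (z j :: x j :: z i :: l) = dl ρ (z j :: z i :: x j :: l) :=
    dl_eq ((List.Perm.swap _ _ _).cons _).subset ((List.Perm.swap _ _ _).cons _).subset
  omega

theorem split (h : Tri c σ z x y) {l : List Y} (hl : ∀ g ∈ l, ∃ m, g = x m) :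
    dl ρ l + dl ρ (c :: z 0 :: l) + dl ρ (c :: z 1 :: l) + dl ρ (c :: z 2 :: l) =
      dl ρ (c :: l) + dl ρ (z 0 :: l) + dl ρ (z 1 :: l) + dl ρ (z 2 :: l) := by
  have h1 := rank2 (ρ := ρ) three_ne (l := l) (h.cen (z 0)).symm (h.z3 0) h.c3
    (fun g hg => by obtain ⟨m, rfl⟩ := hl g hg; exact (h.zx _ _).symm) (fun g _ => (h.cen g).symm)
  rw [← h.z1, ← h.z2] at h1
  have h2 := h.dl_zz (ρ := ρ) (i := 0) (j := 1) (by decide) l
  have h3 := h.dl_zz (ρ := ρ) (i := 1) (j := 0) (by decide) l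
  have h4 := h.dl_zz (ρ := ρ) (i := 0) (j := 2) (by decide) l
  have h5 := h.dl_zz (ρ := ρ) (i := 2) (j := 0) (by decide) l
  have h6 := dl_swap (ρ := ρ) (z 0) (z 1) l
  have h7 := dl_swap (ρ := ρ) (z 0) (z 2) l
  have h8 := dl_swap (ρ := ρ) (z 0) c l
  omega

/-- the space fixed by `z i` and the elements `x j`, `x m` of the other arms -/
theorem nine (h : Tri c σ z x y) {i j m : Fin 3} (hij : i ≠ j) (him : i ≠ m) (hjm : j ≠ m) :
    dl ρ [z i] + 3 * dl ρ [c, z i, x j] = dl ρ [c, z i] + 3 * dl ρ [z i, x j] ∧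
      dl ρ [z i] + 9 * dl ρ [c, z i, x m, x j] = dl ρ [c, z i] + 9 * dl ρ [z i, x m, x j] := by
  have h1 := h.step' (ρ := ρ) hij (l := []) fun g hg => absurd hg List.not_mem_nil
  have h2 := h.step' (ρ := ρ) him (l := [x j]) fun g hg => ⟨j, hjm, List.mem_singleton.1 hg⟩
  omega

omit [Finite Y] in
/-- more fixed elements: the part moved by `c` gets smaller -/
theorem mono {l l' : List Y} (h : l ⊆ l') : dl ρ l' + dl ρ (c :: l) ≤ dl ρ l + dl ρ (c :: l') := by
  have h1 : fl ρ l' ⊔ fl ρ (c :: l) ≤ fl ρ l :=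
    sup_le (fun v hv => mem_fl.2 fun g hg => mem_fl.1 hv g (h hg))
      fun v hv => mem_fl.2 fun g hg => mem_fl.1 hv g (List.mem_cons_of_mem _ hg)
  have h2 : fl ρ l' ⊓ fl ρ (c :: l) ≤ fl ρ (c :: l') := fun v hv => mem_fl.2 fun g hg =>
    (List.mem_cons.1 hg).elim (fun e => e ▸ mem_fl.1 hv.2 c List.mem_cons_self) fun hg => mem_fl.1 hv.1 g hg
  have h3 := Submodule.finrank_sup_add_finrank_inf_eq (fl ρ l') (fl ρ (c :: l))
  have h4 := Submodule.finrank_mono h1
  have h5 := Submodule.finrank_mono h2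
  unfold dl
  omega

/-- **the bounds** -/
theorem bound (h : Tri c σ z x y) (hρ : Function.Injective ρ) (hz : z 0 ≠ 1) :
    54 ≤ finrank (ZMod 2) V ∧ 40 + dl ρ [x 1, x 2] ≤ finrank (ZMod 2) V ∧
      48 + dl ρ [x 0, x 1, x 2] ≤ finrank (ZMod 2) V := by
  rw [← dl_nil (ρ := ρ)]
  have hne : ∀ g : Y, g ≠ 1 → dl ρ [g] ≠ dl ρ [] := fun g hg => dl_ne fun e => hg (hρ (e.trans (map_one ρ).symm))
  by_cases hc : c = 1
  · have e1 : z 1 = z 0 := by rw [h.z1, hc, mul_one]
    have e2 : z 2 = z 0 := by rw [h.z2, hc, one_pow, mul_one]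
    have h1 := h.step (ρ := ρ) 2 (l := []) fun g hg => absurd hg List.not_mem_nil
    have h2 := h.step (ρ := ρ) 1 (l := [x 2]) fun g hg => Or.inr ⟨2, by decide, List.mem_singleton.1 hg⟩
    have h3 := h.step (ρ := ρ) 0 (l := [x 1, x 2]) fun g hg => Or.inr
      ((List.mem_cons.1 hg).elim (fun e => ⟨1, by decide, e⟩) fun hg => ⟨2, by decide, List.mem_singleton.1 hg⟩)
    rw [e2] at h1
    rw [e1] at h2
    have h4 := hne _ hz
    have h5 := two_le (ρ := ρ) (l := [x 0, x 1, x 2]) (h.z3 0) (fun g hg => by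
      simp only [List.mem_cons, List.not_mem_nil, or_false] at hg
      rcases hg with rfl | rfl | rfl <;> exact (h.zx _ _).symm) (by omega)
    have h6 : dl ρ [z 0, x 1, x 2] ≤ dl ρ [z 0] := dl_sub (by simp)
    have h7 : dl ρ [z 0, x 0, x 1, x 2] ≤ dl ρ [z 0] := dl_sub (by simp)
    (clear * - h1 h2 h3 h5 h6 h7; solve | lia | omega)
  · have s0 := h.split (ρ := ρ) (l := []) fun g hg => absurd hg List.not_mem_nil
    have s2 := h.split (ρ := ρ) (l := [x 1, x 2]) fun g hg =>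
      (List.mem_cons.1 hg).elim (fun e => ⟨1, e⟩) fun hg => ⟨2, List.mem_singleton.1 hg⟩
    have s3 := h.split (ρ := ρ) (l := [x 0, x 1, x 2]) fun g hg => (List.mem_cons.1 hg).elim (fun e => ⟨0, e⟩)
      fun hg => (List.mem_cons.1 hg).elim (fun e => ⟨1, e⟩) fun hg => ⟨2, List.mem_singleton.1 hg⟩
    have a1 : dl ρ [z 1] = dl ρ [z 0] := dl_conj' h.sz fun g hg => absurd hg List.not_mem_nil
    have a2 : dl ρ [z 2] = dl ρ [z 1] := dl_conj' (q := σ) (by
      calc σ * z 1 * σ⁻¹ = σ * z 0 * σ⁻¹ * (σ * c * σ⁻¹) := by rw [h.z1]; group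
        _ = z 2 := by rw [h.sz, ← h.cen, mul_inv_cancel_right, h.z1, h.z2, mul_assoc, pow_two])
      fun g hg => absurd hg List.not_mem_nil
    have a3 := h.dl_zz (ρ := ρ) (i := 0) (j := 1) (by decide) []
    have a4 := h.dl_zz (ρ := ρ) (i := 1) (j := 0) (by decide) []
    have a5 := h.dl_zz (ρ := ρ) (i := 0) (j := 2) (by decide) []
    have a6 := h.dl_zz (ρ := ρ) (i := 2) (j := 0) (by decide) []
    have a7 := dl_swap (ρ := ρ) (z 0) (z 1) []
    have a8 := dl_swap (ρ := ρ) (z 0) (z 2) []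
    have n0 := (h.nine (ρ := ρ) (i := 0) (j := 2) (m := 1) (by decide) (by decide) (by decide)).2
    obtain ⟨n1, n1'⟩ := h.nine (ρ := ρ) (i := 1) (j := 2) (m := 0) (by decide) (by decide) (by decide)
    obtain ⟨n2, n2'⟩ := h.nine (ρ := ρ) (i := 2) (j := 1) (m := 0) (by decide) (by decide) (by decide)
    have m1 := mono (ρ := ρ) (c := c) (l := [z 1, x 2]) (l' := [z 1, x 1, x 2]) (by simp)
    have m2 := mono (ρ := ρ) (c := c) (l := [z 2, x 1]) (l' := [z 2, x 1, x 2]) (by simp)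
    have m3 := mono (ρ := ρ) (c := c) (l := [z 0, x 1, x 2]) (l' := [z 0, x 0, x 1, x 2]) (by simp)
    have m4 := mono (ρ := ρ) (c := c) (l := [z 1, x 0, x 2]) (l' := [z 1, x 0, x 1, x 2]) (by simp)
    have m5 := mono (ρ := ρ) (c := c) (l := [z 2, x 0, x 1]) (l' := [z 2, x 0, x 1, x 2]) (by simp only [_root_.Fin.isValue, _root_.List.cons_subset, _root_.List.mem_cons, _root_.List.not_mem_nil, _root_.or_false, _root_.true_or, _root_.List.nil_subset, _root_.and_self, _root_.List.subset_cons_of_subset])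
    have h4 := hne _ hc
    have h5 := two_le (ρ := ρ) (l := [z 0, x 1, x 2]) h.c3 (fun g _ => (h.cen g).symm) (by (clear * - s0 a1 a2 a3 a4 a5 a6 a7 a8 n0 h4; omega))
    have h6 : dl ρ [c, x 1, x 2] ≤ dl ρ [c] := dl_sub (by simp)
    have h7 : dl ρ [c, x 0, x 1, x 2] ≤ dl ρ [c] := dl_sub (by simp)
    (clear * - s0 s2 s3 a1 a2 a3 a4 a5 a6 a7 a8 n0 n1 n1' n2 n2' m1 m2 m3 m4 m5 h5 h6 h7; solve | lia | omega)

end Tri

end two

section lb

variable {p : ℕ} [Fact p.Prime] {S H : Type} [Group S] [Group H] {d : ℕ}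

/-- the bound of a perfect subgroup with trivial centre -/
theorem LB.of_sub (f : H →* S) (hf : Function.Injective f) (hH : commutator H = ⊤) (hZ : center H = ⊥)
    (h : LB p H d) : LB p S d := by
  intro K _ _ π _ hπ hk hp U _ _ _ σ hσ
  let P : Subgroup K := f.range.comap π
  let e := MonoidHom.ofInjective hf
  let τ : P →* H := e.symm.toMonoidHom.comp ((π.comp P.subtype).codRestrict f.range fun x => x.2)
  have hτ : ∀ x : P, f (τ x) = π x := fun x => congrArg Subtype.val (e.apply_symm_apply ⟨π x, x.2⟩)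
  have hs : Function.Surjective τ := fun y => by
    obtain ⟨x, hx⟩ := hπ (f y)
    exact ⟨⟨x, y, hx.symm⟩, hf ((hτ _).trans hx)⟩
  have hc : ∀ x : P, τ x = 1 → (x : K) ∈ center K := fun x hx => by
    rw [← hk, MonoidHom.mem_ker, ← hτ, hx, map_one]
  have hc' : τ.ker ≤ center P := fun x hx => mem_center_iff.2 fun g =>
    Subtype.ext (mem_center_iff.1 (hc x hx) g)
  obtain ⟨hperf, hs'⟩ := H570.LinDim.commutator_eq_top_of_central hH hs hc'
  have hker : (τ.comp (commutator P).subtype).ker = center (commutator P) := by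
    apply le_antisymm
    · exact fun x hx => mem_center_iff.2 fun g => Subtype.ext (mem_center_iff.1 (hc' hx) g)
    · intro x hx
      rw [MonoidHom.mem_ker, ← mem_bot, ← hZ, mem_center_iff]
      intro g
      obtain ⟨g, rfl⟩ := hs' g
      rw [← map_mul, ← map_mul, mem_center_iff.1 hx g]
  refine h (commutator P) (τ.comp (commutator P).subtype) ⟨hperf⟩ hs' hker (fun hd => hp (hd.trans ?_)) U
    (σ.comp (P.subtype.comp (commutator P).subtype))
    (hσ.comp (P.subtype_injective.comp (commutator P).subtype_injective))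
  refine card_dvd_of_injective (((P.subtype.comp (commutator P).subtype).comp (center _).subtype).codRestrict (center K)
    fun x => hc _ (hker.ge x.2)) fun a b hab => ?_
  have h1 := congrArg Subtype.val hab
  exact Subtype.ext (Subtype.ext (Subtype.ext h1))

/-- the multiplier has no `p'`-part -/
theorem lb_of_faithful {n : ℕ} (hm : HasCyclicSchurMultiplier S n) (hn : ∀ m, m ∣ n → ¬ p ∣ m → m = 1)
    (h : ∀ (U : Type) [AddCommGroup U] [Module (ZMod p) U] [Finite U] (σ : Representation (ZMod p) S U),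
      Function.Injective σ → d ≤ finrank (ZMod p) U) : LB p S d := by
  intro K _ _ π hK hπ hk hp U _ _ _ σ hσ
  have h1 : IsStemExtension π := ⟨hπ, hk.le, by rw [hK.commutator_eq_top]; exact le_top⟩
  obtain ⟨f, hf⟩ := hm.2 K π h1
  have h2 := card_dvd_of_surjective f hf
  rw [Nat.card_congr Multiplicative.toAdd, Nat.card_zmod] at h2
  have h3 : Function.Injective π := by
    rw [← MonoidHom.ker_eq_bot_iff, ← card_eq_one]
    exact hn _ h2 (hk ▸ hp)
  let e := MulEquiv.ofBijective π ⟨h3, hπ⟩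
  exact h U (σ.comp e.symm.toMonoidHom) (hσ.comp e.symm.injective)

end lb

end Cfsg.Agent.TwoF.SpE

private theorem dce_8f349c2c190f : _root_.True := by
  try have : _root_.True := by simp only [_root_.Cfsg.Agent.TwoF.SpE.dl.eq_1]
  try have : _root_.True := by simp only [_root_.Cfsg.Agent.TwoF.SpE.fl.eq_1]
  try have : _root_.True := by simp only [_root_.Cfsg.Agent.TwoF.Gen.resOn.congr_simp]
  exact _root_.True.intro
end

-- part: TwoF/SpO/Tool
section
prune_inst 0x4e0104261582210000004001000001fe3c30001000008000040840c00048b7c0000020020b8802c1808080004003c0008120000b00000000000000400011d01a080824002a208a004240007000000000000000000000000000000000000041004000000000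
set_option linter.all false
open scoped Cfsg.Agent.FastGrp

/-!
# TwoF SP-B2: tools for the sporadic rows in odd characteristic (helper88)

* `noOff_of_prod` : every element `x` of order `p` has a conjugate `x'` with `s ∣ |x x'|`;
* `cub_of_le` : the equality lemma for `p = 3`;
* `dvd_cod_of_sylow` : the centre of a non-abelian Sylow subgroup of order `r ^ 3`;
* `griesmer` : a bound for the rank of elementary abelian `3`-subgroups.
-/

set_option autoImplicit false

namespace Cfsg.Agent.TwoF.SpO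

open Module Gen Subgroup
open scoped commutatorElement

section

variable {k : Type*} [Field k] {Y : Type*} [Group Y] {V : Type*} [AddCommGroup V] [Module k V]
  {ρ : Representation k Y V} [FiniteDimensional k V]

theorem cod_pow_le (g : Y) (n : ℕ) : cod ρ (zpowers (g ^ n)) ≤ cod ρ (zpowers g) :=
  cod_mono (zpowers_le.2 (pow_mem (mem_zpowers g) n))

theorem cod_prod_le (a x : Y) : cod ρ (zpowers (a * x * a⁻¹ * x)) ≤ 2 * cod ρ (zpowers x) := by
  have h := cod_zpowers_mul_le (ρ := ρ) (a * x * a⁻¹) x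
  rw [cod_zpowers_conj] at h
  omega

theorem cod_congr {a b : Y} (h : ρ a = ρ b) : cod ρ (zpowers a) = cod ρ (zpowers b) := by
  rw [cod_zpowers, cod_zpowers, h]

/-- an element whose order is divisible by the prime `s` -/
theorem le_cod_of_dvd [Finite Y] [Finite k] [Finite V] (hf : Function.Injective ρ) {s n : ℕ} (hs : s.Prime)
    (hk : ¬ s ∣ Nat.card k) (hn : ∀ d, 0 < d → d < n → Nat.card k ^ d % s ≠ 1 % s) {g : Y} (hg : s ∣ orderOf g) :
    n ≤ cod ρ (zpowers g) := by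
  have : Fact s.Prime := ⟨hs⟩
  have h1 := orderOf_pow_orderOf_div (orderOf_pos g).ne' hg
  refine le_trans (le_cod_of_order hf hk hn (IsPGroup.of_card (n := 1) (by rw [Nat.card_zpowers, h1, pow_one]))
    fun e => ?_) (cod_pow_le g _)
  rw [zpowers_eq_bot.1 e, orderOf_one] at h1
  exact hs.one_lt.ne h1

/-- **the equality lemma** -/
theorem cub_of_le [CharP k 3] {A : Subgroup Y} [Finite A] (hA : IsElementaryAbelian 3 A)
    (h : ∀ a ∈ A, a ≠ 1 → cod ρ A ≤ cod ρ (zpowers a)) : Cub ρ A := by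
  have : Fact (Nat.Prime 3) := ⟨Nat.prime_three⟩
  by_contra e
  obtain ⟨v, h4, h3⟩ := exists_asc_four (elemAb_isPGroup hA) e
  obtain ⟨a, ha, b, hb, hv⟩ := exists_sq_ne (p := 3) (by decide) (fun a ha b hb => elemAb_comm hA ha hb) h4 h3
  have h1 : a ≠ 1 := by
    rintro rfl
    exact hv (by simp)
  have h2 : fx ρ A = fx ρ (zpowers a) := by
    refine Submodule.eq_of_le_of_finrank_le (fx_anti (zpowers_le.2 ha)) ?_
    have h5 := h a ha h1
    have h6 := cod_add (ρ := ρ) A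
    have h7 := cod_add (ρ := ρ) (zpowers a)
    omega
  have h5 : (ρ a - 1) ((ρ a - 1) v) ∈ fx ρ A := by
    have := sub_one_pow (ρ := ρ) (p := 3) (n := 1) (by rw [pow_one]; exact hA.2 a ha)
    rw [pow_one, pow_three] at this
    rw [h2, fx_zpowers]
    exact DFunLike.congr_fun this v
  rw [sub_one_comm (elemAb_comm hA ha hb), sub_one_comm (elemAb_comm hA ha hb)] at hv
  exact hv (sub_eq_zero.2 (h5 b hb))

/-- an offender whose rank is at most `e`, all non-trivial elements have codimension at least `2 e` -/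
theorem cub_of_rank [CharP k 3] [Finite Y] {A : Subgroup Y} (hA : Off 3 ρ A) {e : ℕ} (h1 : Nat.card A ≤ 3 ^ e)
    (h2 : ∀ a ∈ A, a ≠ 1 → 2 * e ≤ cod ρ (zpowers a)) : Cub ρ A := by
  have : Fact (Nat.Prime 3) := ⟨Nat.prime_three⟩
  obtain ⟨r, -, h3, h4⟩ := hA.exists_card
  rw [h3, Nat.pow_le_pow_iff_right (by norm_num)] at h1
  exact cub_of_le hA.1 fun a ha h5 => (h4.trans (by omega)).trans (h2 a ha h5)

/-- **the centre of a non-abelian Sylow subgroup of order `r ^ 3`** -/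
theorem dvd_cod_of_sylow [Finite Y] {r : ℕ} (hr : r.Prime) (hk : (r : k) ≠ 0) (h4 : ¬ r ^ 4 ∣ Nat.card Y) {z y : Y}
    (hz : orderOf z = r) (h3 : r ^ 3 ∣ Nat.card (centralizer ({z} : Set Y))) (hy : y ^ r = 1)
    (hy' : ¬ r ^ 3 ∣ Nat.card (centralizer ({y} : Set Y))) : r ∣ cod ρ (zpowers z) := by
  have : Fact r.Prime := ⟨hr⟩
  have hz1 : z ^ r = 1 := hz ▸ pow_orderOf_eq_one z
  have pg : ∀ {G : Type _} [Group G] {g : G}, g ^ r = 1 → IsPGroup r (zpowers g) := fun h =>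
    elemAb_isPGroup (elemAb_zpowers h)
  let z' : centralizer ({z} : Set Y) := ⟨z, mem_centralizer_singleton_iff.2 rfl⟩
  obtain ⟨Q, hQ⟩ := (pg (g := z') (Subtype.ext hz1)).exists_le_sylow
  obtain ⟨P, hP⟩ := (Q.isPGroup'.map (centralizer ({z} : Set Y)).subtype).exists_le_sylow
  have c1 : r ^ 3 ∣ Nat.card (Q : Subgroup (centralizer ({z} : Set Y))) := by
    rw [Q.card_eq_multiplicity]
    exact pow_dvd_pow r ((hr.pow_dvd_iff_le_factorization Nat.card_pos.ne').1 h3)
  have c2 : Nat.card (P : Subgroup Y) ∣ r ^ 3 := by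
    rw [P.card_eq_multiplicity]
    exact pow_dvd_pow r (Nat.le_of_lt_succ (not_le.1 fun h => h4
      ((hr.pow_dvd_iff_le_factorization Nat.card_pos.ne').2 h)))
  rw [← card_map_of_injective (centralizer ({z} : Set Y)).subtype_injective] at c1
  have c3 : Nat.card (P : Subgroup Y) = r ^ 3 := Nat.dvd_antisymm c2 (c1.trans (card_dvd_of_le hP))
  have e : (Q : Subgroup (centralizer ({z} : Set Y))).map (centralizer ({z} : Set Y)).subtype = P :=
    eq_of_le_of_card_ge hP (c3 ▸ Nat.le_of_dvd Nat.card_pos c1)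
  have hc : ∀ q ∈ (P : Subgroup Y), q * z = z * q := fun q hq => by
    rw [← e] at hq
    obtain ⟨q, -, rfl⟩ := hq
    exact mem_centralizer_singleton_iff.1 q.2
  have hzP : z ∈ (P : Subgroup Y) := hP ⟨z', hQ (mem_zpowers _), rfl⟩
  obtain ⟨P', hP'⟩ := (pg hy).exists_le_sylow
  obtain ⟨g, hg⟩ := MulAction.exists_smul_eq Y P' P
  have hyP : g * y * g⁻¹ ∈ (P : Subgroup Y) := by
    rw [← hg]
    exact ⟨y, hP' (mem_zpowers y), rfl⟩
  have hy1 : (g * y * g⁻¹) ^ r = 1 := by rw [conj_pow, hy, mul_one, mul_inv_cancel]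
  have hy2 : ¬ (P : Subgroup Y) ≤ centralizer {g * y * g⁻¹} := fun h => hy' (by
    have h5 : (P : Subgroup Y).map (MulAut.conj g⁻¹).toMonoidHom ≤ centralizer {y} := by
      rintro _ ⟨q, hq, rfl⟩
      have h6 := mem_centralizer_singleton_iff.1 (h hq)
      refine mem_centralizer_singleton_iff.2 ?_
      show g⁻¹ * q * g⁻¹⁻¹ * y = y * (g⁻¹ * q * g⁻¹⁻¹)
      calc _ = g⁻¹ * (q * (g * y * g⁻¹)) * g := by group
        _ = _ := by rw [h6]; group
    rw [← c3, ← card_map_conj g⁻¹]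
    exact card_dvd_of_le h5)
  generalize g * y * g⁻¹ = w at hyP hy1 hy2
  obtain ⟨q, hq, h5⟩ := SetLike.not_le_iff_exists.1 hy2
  have hN : ((zpowers z).subgroupOf (P : Subgroup Y)).Normal := ⟨fun n hn a => by
    obtain ⟨j, hj⟩ := mem_zpowers_iff.1 (mem_subgroupOf.1 hn)
    refine mem_subgroupOf.2 (mem_zpowers_iff.2 ⟨j, ?_⟩)
    show _ = (a : Y) * n * (a : Y)⁻¹
    rw [← hj, (Commute.zpow_right (hc a a.2) j).eq, mul_inv_cancel_right]⟩
  have c4 : Nat.card ((P : Subgroup Y) ⧸ (zpowers z).subgroupOf (P : Subgroup Y)) = r ^ 2 := by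
    have h6 := ((zpowers z).subgroupOf (P : Subgroup Y)).card_eq_card_quotient_mul_card_subgroup
    rw [c3, Nat.card_congr (subgroupOfEquivOfLe (zpowers_le.2 hzP)).toEquiv, Nat.card_zpowers, hz, pow_succ] at h6
    exact (Nat.eq_of_mul_eq_mul_right hr.pos h6).symm
  have h6 : ⁅q, w⁆ ∈ zpowers z := by
    have h7 := (IsPGroup.isMulCommutative_of_card_eq_prime_sq c4).is_comm.comm (QuotientGroup.mk ⟨q, hq⟩)
      (QuotientGroup.mk ⟨w, hyP⟩)
    rw [← commutatorElement_eq_one_iff_mul_comm, ← QuotientGroup.mk'_apply, ← QuotientGroup.mk'_apply,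
      ← map_commutatorElement, QuotientGroup.mk'_apply, QuotientGroup.eq_one_iff] at h7
    exact h7
  have h7 : ⁅q, w⁆ ≠ 1 := fun h => h5 (mem_centralizer_singleton_iff.2 (commutatorElement_eq_one_iff_mul_comm.1 h))
  have h8 : zpowers ⁅q, w⁆ = zpowers z := by
    have : Fact (Nat.card (zpowers z)).Prime := ⟨by rw [Nat.card_zpowers, hz]; exact hr⟩
    refine eq_of_le_of_card_ge (zpowers_le.2 h6) (Nat.le_of_eq ?_)
    refine ((Nat.dvd_prime this.out).1 (card_dvd_of_le (zpowers_le.2 h6))).resolve_left (fun h => h7 ?_) |>.symm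
    rwa [Nat.card_zpowers, orderOf_eq_one_iff] at h
  obtain ⟨j, hj⟩ := mem_zpowers_iff.1 h6
  have h9 := heis_cod_eq (ρ := ρ) (y := w) (z := ⁅q, w⁆) (q := q) (hj ▸ (Commute.zpow_right (hc w hyP) j).eq)
    (hj ▸ (Commute.zpow_right (hc q hq) j).eq)
    (by rw [show w * ⁅q, w⁆ = ⁅q, w⁆ * w from hj ▸ (Commute.zpow_right (hc w hyP) j).eq, commutatorElement_def]; group)
    hr hk hy1 (by rw [← hj, ← zpow_natCast, ← zpow_mul, mul_comm, zpow_mul, zpow_natCast, hz1, one_zpow])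
  rw [h8] at h9
  exact (Nat.dvd_add_right (dvd_mul_right _ _)).1 (h9 ▸ dvd_mul_right _ _)

theorem cod_step (hk : (3 : k) ≠ 0) (hω : ∀ c : k, c ^ 3 = 1 → c = 1) {A B : Subgroup Y}
    (hA : IsElementaryAbelian 3 A) (hB : B ≤ A) (h : cod ρ B < cod ρ A) : cod ρ B + 2 ≤ cod ρ A := by
  by_contra e
  have h1 := cod_add (ρ := ρ) A
  have h2 := cod_add (ρ := ρ) B
  have h3 : fx ρ A < fx ρ B := lt_of_le_of_ne (fx_anti hB) fun h3 => by
    rw [h3] at h1
    omega
  obtain ⟨w, hw, hw'⟩ := SetLike.exists_of_lt h3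
  have h4 : fx ρ A ⊔ Submodule.span k {w} = fx ρ B := by
    refine Submodule.eq_of_le_of_finrank_le (sup_le h3.le ((Submodule.span_singleton_le_iff_mem _ _).2 hw)) ?_
    have h5 := Submodule.finrank_lt_finrank_of_lt (s := fx ρ A) (t := fx ρ A ⊔ Submodule.span k {w})
      (lt_of_le_of_ne le_sup_left fun h => hw' (h ▸ Submodule.mem_sup_right (Submodule.mem_span_singleton_self w)))
    omega
  refine hw' fun a ha => ?_
  have h5 : ρ a w ∈ fx ρ B := fun b hb => by rw [← rho_mul, elemAb_comm hA (hB hb) ha, rho_mul, hw b hb]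
  rw [← h4] at h5
  obtain ⟨u, hu, _, h6, h7⟩ := Submodule.mem_sup.1 h5
  obtain ⟨c, rfl⟩ := Submodule.mem_span_singleton.1 h6
  have h8 : ρ a (ρ a (ρ a w)) = w := by rw [← rho_mul, ← rho_mul, ← pow_three', hA.2 a ha, rho_one]
  simp only [← h7, map_add, map_smul, hu a ha] at h8
  have h9 : c = 1 := hω c (by
    by_contra h9
    refine hw' ((Submodule.smul_mem_iff _ (sub_ne_zero.2 h9)).1 ?_)
    have h10 : (c ^ 3 - 1) • w = -((1 + c + c ^ 2) • u) := by linear_combination (norm := module) h8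
    rw [h10]
    exact neg_mem (Submodule.smul_mem _ _ hu))
  subst h9
  have h10 : (3 : k) • u = 0 := by linear_combination (norm := module) h8
  rw [← h7, (smul_eq_zero.1 h10).resolve_left hk, zero_add, one_smul]

/-- a subgroup of index `r` with a larger fixed space -/
theorem exists_hyper [Finite Y] {r : ℕ} (hr : r.Prime) (hk : (r : k) ≠ 0) {A : Subgroup Y}
    (hA : IsElementaryAbelian r A) {a : Y} (ha : a ∈ A) (h : ρ a ≠ 1) :
    ∃ B ≤ A, r * Nat.card B = Nat.card A ∧ cod ρ B < cod ρ A := by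
  obtain ⟨χ, h1, h2⟩ := exists_wt (ρ := bc (AlgebraicClosure k) ρ) (R := A) (fun a ha b hb => elemAb_comm hA ha hb)
    (card_ne_zero_closure (card_ne_zero_of_exp hr hk hA.2)) (r := ⟨a, ha⟩) fun e => h
      (baseChange_injective (AlgebraicClosure k) (e.trans (LinearMap.baseChange_one _ _).symm))
  have h3 := index_ker_char hr hA.2 (χ := χ) fun e => h1 (by rw [e]; rfl)
  refine ⟨χ.ker.map A.subtype, map_subtype_le _, ?_, ?_⟩
  · rw [card_map_of_injective A.subtype_injective, ← h3, index_mul_card]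
  · rw [← cod_bc (AlgebraicClosure k), ← cod_bc (AlgebraicClosure k) A]
    have h4 := wt_le_fx (ρ := bc (AlgebraicClosure k) ρ) (χ := χ) (map_subtype_le χ.ker) fun r hr => by
      obtain ⟨s, hs, e⟩ := hr
      exact Subtype.ext e ▸ hs
    have h5 := wt_inf_fx (ρ := bc (AlgebraicClosure k) ρ) (χ := χ) (B := A) fun h => h1 (h _ ha)
    have h6 := Submodule.finrank_lt_finrank_of_lt (lt_of_le_of_ne (fx_anti (ρ := bc (AlgebraicClosure k) ρ)
      (map_subtype_le χ.ker)) fun e => mlt_pos_iff.1 h2 (by rw [← h5, e, inf_eq_left.2 h4]))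
    have h7 := cod_add (ρ := bc (AlgebraicClosure k) ρ) A
    have h8 := cod_add (ρ := bc (AlgebraicClosure k) ρ) (χ.ker.map A.subtype)
    omega

/-- **the Griesmer bound**: all non-trivial elements have codimension at least `3 m` -/
theorem griesmer [Finite Y] (hk : (3 : k) ≠ 0) (hω : ∀ c : k, c ^ 3 = 1 → c = 1) {m : ℕ} (hm : 0 < m) (n : ℕ) :
    ∀ A : Subgroup Y, IsElementaryAbelian 3 A → (∀ a ∈ A, a ≠ 1 → 3 * m ≤ cod ρ (zpowers a)) →
      Nat.card A = 3 ^ (n + 2) → 4 * m + 2 * n ≤ cod ρ A := by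
  induction n with
  | zero =>
    intro A hA h hc
    classical
    have := Fintype.ofFinite A
    have h1 := sum_cod_elt (ρ := ρ) (fun a ha b hb => elemAb_comm hA ha hb) Nat.prime_three (by exact_mod_cast hk) hA.2
    have h2 := Finset.card_nsmul_le_sum (Finset.univ.erase (1 : A)) (fun e : A => cod ρ (zpowers (e : Y))) (3 * m)
      fun e he => h e e.2 fun h3 => (Finset.mem_erase.1 he).1 (Subtype.ext h3)
    have h3 := Finset.sum_le_sum_of_subset (f := fun e : A => cod ρ (zpowers (e : Y)))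
      (Finset.erase_subset (1 : A) Finset.univ)
    rw [Finset.card_erase_of_mem (Finset.mem_univ _), Finset.card_univ, ← Nat.card_eq_fintype_card, hc,
      smul_eq_mul] at h2
    rw [hc] at h1
    omega
  | succ n ih =>
    intro A hA h hc
    obtain ⟨a, ha, h1⟩ : ∃ a ∈ A, a ≠ 1 := (A.bot_or_exists_ne_one).resolve_left fun e => by
      rw [e, card_bot] at hc
      exact (Nat.one_lt_pow (by omega) (by norm_num)).ne hc
    obtain ⟨B, h2, h3, h4⟩ := exists_hyper (ρ := ρ) Nat.prime_three (by exact_mod_cast hk) hA ha fun e => by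
      have h2 := h a ha h1
      rw [cod_congr (e.trans (map_one ρ).symm), zpowers_one_eq_bot, cod_bot] at h2
      omega
    have h5 := ih B (elemAb_of_le hA h2) (fun b hb => h b (h2 hb)) (by rw [hc, pow_succ] at h3; omega)
    have h6 := cod_step hk hω hA h2 h4
    omega

end

variable {p : ℕ} [Fact p.Prime] {S : Type} [Group S]

/-- **no offender**: `ord_s(p) ≥ n > 4 e`, and `p ^ (e + 1)` does not divide the order -/
theorem noOff_of_prod [Finite S] (ho : ¬ p ∣ Nat.card (Out S)) {s n e : ℕ} (hs : s.Prime) (hsp : s ≠ p)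
    (hn : ∀ d, 0 < d → d < n → p ^ d % s ≠ 1 % s) (hN : ¬ p ^ (e + 1) ∣ Nat.card S) (he : 4 * e < n)
    (h : ∀ x : S, orderOf x = p → ∃ a, s ∣ orderOf (a * x * a⁻¹ * x)) : NoOff p S :=
  noOff_of_sit fun Y _ _ V _ _ _ K ρ π φ H A hA => by
    have hp : p.Prime := Fact.out
    have h1 := H.toFrm.le_of_not_dvd (elemAb_isPGroup hA.1) ho
    obtain ⟨r, -, h2, h3⟩ := hA.exists_card
    have h4 : r ≤ e := Nat.le_of_lt_succ (not_le.1 fun h4 => hN ((pow_dvd_pow p h4).trans (by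
      have h5 := card_dvd_of_le h1
      rw [H.toFrm.card_K, h2] at h5
      exact (((Nat.Prime.coprime_iff_not_dvd hp).2 H.cop).pow_left r).dvd_of_dvd_mul_left h5)))
    obtain ⟨x, hx, h5⟩ := A.bot_or_exists_ne_one.resolve_left hA.2.1
    have h6 : orderOf (π ⟨x, h1 hx⟩) = p := orderOf_eq_prime
      (by rw [← map_pow, show (⟨x, h1 hx⟩ : K) ^ p = 1 from Subtype.ext (hA.1.2 x hx), map_one])
      fun e => h5 (H.toStp.eq_one_of_mem_centralizer (n := 1) (by rw [pow_one]; exact hA.1.2 x hx)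
        (H.toFrm.π_eq_one_iff.1 e))
    obtain ⟨a, ha⟩ := h _ h6
    obtain ⟨a, rfl⟩ := H.surj a
    rw [← map_inv, ← map_mul, ← map_mul, ← map_mul] at ha
    have h7 := le_cod_of_dvd H.faithful hs
      (by rw [Nat.card_zmod]; exact fun h => hsp ((Nat.prime_dvd_prime_iff_eq hs hp).1 h))
      (by rwa [Nat.card_zmod]) (g := a * x * (a : Y)⁻¹ * x)
      ((ha.trans (orderOf_map_dvd π _)).trans (orderOf_coe _).symm.dvd)
    have h8 := cod_prod_le (ρ := ρ) a x
    have h9 := cod_mono (ρ := ρ) (zpowers_le.2 hx)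
    omega

end Cfsg.Agent.TwoF.SpO
end

-- part: TwoF/SpD/Tool
section
set_option linter.all false
open scoped Cfsg.Agent.FastGrp

/-!
# TwoF SP-D: lower bounds for `dim [V, x]` that lift to all covers, two criteria for rows (helper55)

`EB p m s n`: every preimage `x` of `s` in a central extension with kernel of order dividing `m` has
`dim [U, x] ≥ n` on every faithful module over `ZMod p`.
-/

set_option autoImplicit false
set_option maxHeartbeats 400000
set_option linter.unusedSectionVars false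

namespace Cfsg.Agent.TwoF.SpD

open Cfsg Subgroup Module Cfsg.Agent.TwoF.Gen Cfsg.Agent.H859
open scoped commutatorElement

section Lift

variable {K S : Type*} [Group K] [Group S] {π : K →* S} {m r : ℕ}

theorem ker_pow (hm : Nat.card π.ker ∣ m) {c : K} (hc : π c = 1) : c ^ m = 1 :=
  orderOf_dvd_iff_pow_eq_one.1 ((π.ker.orderOf_dvd_natCard hc).trans hm)

theorem pow_eq_of_lift (hk : π.ker ≤ center K) {x y : K} (h : π x = π y) (n : ℕ) :
    x ^ n = (x * y⁻¹) ^ n * y ^ n := by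
  have h1 : Commute (x * y⁻¹) y :=
    (mem_center_iff.1 (hk (show π (x * y⁻¹) = 1 by rw [map_mul, map_inv, h, mul_inv_cancel])) y).symm
  rw [← h1.mul_pow, inv_mul_cancel_right]

theorem lift_unique (hk : π.ker ≤ center K) (hm : Nat.card π.ker ∣ m) (hr : r.Coprime m) {x y : K} (h : π x = π y)
    (hx : x ^ r = 1) (hy : y ^ r = 1) : x = y := by
  have h1 := pow_eq_of_lift hk h r
  rw [hx, hy, mul_one] at h1
  have h2 := ker_pow hm (show π (x * y⁻¹) = 1 by rw [map_mul, map_inv, h, mul_inv_cancel])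
  rw [← mul_inv_eq_one, ← orderOf_eq_one_iff]
  exact Nat.eq_one_of_dvd_coprimes hr (orderOf_dvd_of_pow_eq_one h1.symm) (orderOf_dvd_of_pow_eq_one h2)

theorem lift_mem (hm : Nat.card π.ker ∣ m) (hr : r.Coprime m) {x : K} (hx : π x ^ r = 1) :
    ∃ y ∈ zpowers x, π y = π x ∧ y ^ r = 1 := by
  obtain ⟨n, h1, h2⟩ := Nat.chineseRemainder hr 1 0
  obtain ⟨c, rfl⟩ := Nat.modEq_zero_iff_dvd.1 h2
  refine ⟨x ^ (m * c), pow_mem (mem_zpowers x) _, ?_, ?_⟩
  · rw [map_pow, pow_eq_pow_iff_modEq.2 (h1.of_dvd (orderOf_dvd_of_pow_eq_one hx)), pow_one]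
  · rw [← pow_mul, mul_comm, pow_mul, pow_mul, ker_pow hm (by rw [map_pow, hx]), one_pow]

theorem lift_exists (hs : Function.Surjective π) (hm : Nat.card π.ker ∣ m) (hr : r.Coprime m) {s : S}
    (h : s ^ r = 1) : ∃ y, π y = s ∧ y ^ r = 1 := by
  obtain ⟨x, rfl⟩ := hs s
  obtain ⟨y, -, h1⟩ := lift_mem hm hr h
  exact ⟨y, h1⟩

theorem lift_rel (hs : Function.Surjective π) (hk : π.ker ≤ center K) (hm : Nat.card π.ker ∣ m) (hr : r.Coprime m)
    {a b w : S} (h : Heis.Rel r a b w) {z : K} (hz : π z = w) (hzr : z ^ r = 1) : ∃ x y : K, Heis.Rel r x y z := by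
  obtain ⟨x, rfl, hx⟩ := lift_exists hs hm hr h.ap
  obtain ⟨y, rfl, hy⟩ := lift_exists hs hm hr h.bp
  subst hz
  have hc := hr.coprime_dvd_right hm
  have h1 := comm_of_coprime hk h.aw h.ap hc
  have h2 := comm_of_coprime hk h.bw h.bp hc
  refine ⟨x, y, hx, hy, hzr, h1, h2, ?_, fun e => h.w1 (by rw [e, map_one])⟩
  have h3 : x⁻¹ * y * x⁻¹⁻¹ = y * z := lift_unique hk hm hr
    (by simp only [map_mul, map_inv, inv_inv]; rw [mul_assoc, h.ba]; group) (by rw [conj_pow, hy]; group)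
    (by rw [(show Commute y z from h2).mul_pow, hy, hzr, one_mul])
  rw [mul_assoc, ← h3]
  group

theorem heis_comm {Y : Type*} [Group Y] {p : ℕ} [Fact p.Prime] {a b w : Y} (h : Heis.Rel p a b w) :
    ∀ x ∈ Heis.gp h, ∀ y ∈ Heis.gp h, ⁅x, y⁆ ∈ zpowers w := by
  rintro _ ⟨i, j, l, rfl⟩ _ ⟨i', j', l', rfl⟩
  have h1 : ∀ n, Commute (a ^ (i + i') * b ^ (j + j')) (w ^ n) := fun n =>
    ((show Commute a w from h.aw).pow_pow _ _).mul_left ((show Commute b w from h.bw).pow_pow _ _)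
  rw [commutatorElement_def, mul_assoc (_ * _), ← mul_inv_rev, h.mul, h.mul, add_comm i' i, add_comm j' j, (h1 _).eq,
    (h1 _).eq, mul_inv_rev, mul_assoc, mul_inv_cancel_left]
  exact mul_mem (pow_mem (mem_zpowers w) _) (inv_mem (pow_mem (mem_zpowers w) _))

end Lift

/-- a lower bound for `dim [U, x]`, for all preimages `x` of `s` -/
def EB (p : ℕ) [Fact p.Prime] (m : ℕ) {S : Type} [Group S] (s : S) (n : ℕ) : Prop :=
  ∀ (K : Type) [Group K] [Finite K] (π : K →* S), Function.Surjective π → π.ker ≤ center K → Nat.card π.ker ∣ m →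
    ∀ (U : Type) [AddCommGroup U] [Module (ZMod p) U] [Finite U] (σ : Representation (ZMod p) K U),
      Function.Injective σ → ∀ x, π x = s → n ≤ cod σ (zpowers x)

variable {p : ℕ} [hp : Fact p.Prime] {m n n' : ℕ} {S : Type} [Group S] {s t : S}

theorem EB.mono (h : EB p m s n) (hn : n' ≤ n) : EB p m s n' :=
  fun K _ _ π h1 h2 h3 U _ _ _ σ h4 x h5 => hn.trans (h K π h1 h2 h3 U σ h4 x h5)

theorem EB.conj (h : EB p m s n) (hc : IsConj t s) : EB p m t n := by
  intro K _ _ π h1 h2 h3 U _ _ _ σ h4 x h5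
  obtain ⟨g, rfl⟩ := isConj_iff.1 hc
  obtain ⟨g, rfl⟩ := h1 g
  rw [← cod_zpowers_conj g]
  exact h K π h1 h2 h3 U σ h4 _ (by rw [map_mul, map_mul, map_inv, h5])

theorem EB.of_pow {k : ℕ} (h : EB p m (s ^ k) n) : EB p m s n :=
  fun K _ _ π h1 h2 h3 U _ _ _ σ h4 x h5 => (h K π h1 h2 h3 U σ h4 (x ^ k) (by rw [map_pow, h5])).trans
    (cod_mono (zpowers_le.2 (pow_mem (mem_zpowers x) k)))

theorem EB.mul {a b : S} (h : EB p m (a * b) n) (ha : IsConj t a) (hb : IsConj t b) (hn : 2 * n' ≤ n + 1) :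
    EB p m t n' := by
  intro K _ _ π h1 h2 h3 U _ _ _ σ h4 x h5
  obtain ⟨g, rfl⟩ := isConj_iff.1 ha
  obtain ⟨g, rfl⟩ := h1 g
  obtain ⟨f, rfl⟩ := isConj_iff.1 hb
  obtain ⟨f, rfl⟩ := h1 f
  have h6 := (h K π h1 h2 h3 U σ h4 (g * x * g⁻¹ * (f * x * f⁻¹)) (by simp only [map_mul, map_inv, h5])).trans
    (cod_zpowers_mul_le _ _)
  rw [cod_zpowers_conj, cod_zpowers_conj] at h6
  omega

/-- an involution that inverts `z` -/
theorem EB.inv {z : S} {k : ℕ} (h : EB p m z n) (hk : (z ^ 2) ^ k = z) (ht : t * t = 1) (hz : t * z * t⁻¹ = z⁻¹)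
    (hn : 2 * n' ≤ n + 1) : EB p m t n' := by
  have h1 : z * t * z⁻¹ * t = z ^ 2 := by
    rw [← hz, pow_two]
    calc z * t * (t * z * t⁻¹) * t = z * (t * t) * z := by group
      _ = z * z := by rw [ht, mul_one]
  exact EB.mul (a := z * t * z⁻¹) (b := t) (h1 ▸ EB.of_pow (hk.symm ▸ h)) (isConj_iff.2 ⟨z, rfl⟩) (IsConj.refl t) hn

theorem eb_ord {r : ℕ} (hr : r.Prime) (hrp : r ≠ p) (hs : orderOf s = r)
    (hn : ∀ d < n, 0 < d → p ^ d % r ≠ 1 % r) : EB p m s n := by
  intro K _ _ π _ _ _ U _ _ _ σ h4 x h5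
  have := Fact.mk hr
  obtain ⟨y, hy⟩ := exists_prime_orderOf_dvd_card' (G := zpowers x) r
    (by rw [Nat.card_zpowers, ← hs, ← h5]; exact orderOf_map_dvd π x)
  rw [← orderOf_coe] at hy
  refine le_trans (le_cod_of_order h4 (s := r) (X := zpowers (y : K)) ?_ (fun d h1 h2 => ?_)
    (IsPGroup.of_card (n := 1) (by rw [Nat.card_zpowers, hy, pow_one]))
    (by rw [Ne, zpowers_eq_bot, ← orderOf_eq_one_iff, hy]; exact hr.ne_one)) (cod_mono (zpowers_le.2 y.2))
  · rw [Nat.card_zmod]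
    exact fun e => hrp ((Nat.prime_dvd_prime_iff_eq hr hp.out).1 e)
  · rw [Nat.card_zmod]
    exact hn d h2 h1

theorem cast_ne {r : ℕ} (hr : r.Prime) (hrp : r ≠ p) : (r : ZMod p) ≠ 0 := by
  rw [Ne, ZMod.natCast_eq_zero_iff]
  exact fun e => hrp ((Nat.prime_dvd_prime_iff_eq hp.out hr).1 e).symm

/-- a `q`-element that normalises a group of prime order -/
theorem EB.frob {r q e i : ℕ} [Fact q.Prime] (h : EB p m s n) (hr : r.Prime) (hrp : r ≠ p) (hrm : r.Coprime m)
    (hs : orderOf s = r) (hm : m ∣ q ^ e) (ht : t ^ q = 1) (hi : t * s * t⁻¹ = s ^ i) (hne : t * s ≠ s * t)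
    (hn : q * n' < (q - 1) * n + q) : EB p m t n' := by
  intro K _ _ π h1 h2 h3 U _ _ _ σ h4 a h5
  obtain ⟨x, rfl, hx⟩ := lift_exists h1 h3 hrm (hs ▸ pow_orderOf_eq_one s)
  have := Fact.mk hr
  have h6 : orderOf x = r := orderOf_eq_prime hx fun e => hr.ne_one (by rw [← hs, e, map_one, orderOf_one])
  have h7 : a * x * a⁻¹ = x ^ i := lift_unique h2 h3 hrm (by rw [map_mul, map_mul, map_inv, h5, hi, map_pow])
    (by rw [conj_pow, hx]; group) (by rw [← pow_mul, mul_comm, pow_mul, hx, one_pow])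
  have h8 : zpowers a ≤ normalizer (zpowers x : Set K) := zpowers_le.2 (mem_normalizer_fintype fun _ ⟨j, hj⟩ => by
    rw [← hj, ← conj_zpow, h7]
    exact zpow_mem (pow_mem (mem_zpowers _) i) j)
  have h9 : a ^ q ^ (e + 1) = 1 := by
    obtain ⟨c, hc⟩ := hm
    rw [pow_succ', pow_mul, hc, pow_mul, ker_pow h3 (by rw [map_pow, h5, ht]), one_pow]
  obtain ⟨j, -, hj⟩ := (Nat.dvd_prime_pow Fact.out).1 (orderOf_dvd_of_pow_eq_one h9)
  have h10 := coprime_bound (ρ := σ) (R := zpowers x) (A := zpowers a) (p := q)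
    (by rintro _ ⟨i, rfl⟩ _ ⟨j, rfl⟩; exact (Commute.zpow_zpow_self x i j).eq)
    (by rw [Nat.card_zpowers, h6]; exact cast_ne hr hrp) h8 (IsPGroup.of_card (by rw [Nat.card_zpowers, hj]))
  have h11 : ⁅zpowers x, zpowers a⁆ = zpowers x := by
    have h12 := commutator_le_of_le_normalizer h8
    have h13 := card_dvd_of_le h12
    rw [Nat.card_zpowers, h6] at h13
    rcases (Nat.dvd_prime hr).1 h13 with h14 | h14
    · have h15 := commutator_mem_commutator (mem_zpowers x) (mem_zpowers a)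
      rw [card_eq_one.1 h14, mem_bot, commutatorElement_eq_one_iff_mul_comm] at h15
      exact absurd (by rw [← h5, ← map_mul, ← h15, map_mul]) hne
    · exact eq_of_le_of_card_ge h12 (by rw [Nat.card_zpowers, h6, h14])
  rw [h11] at h10
  have h12 := Nat.mul_le_mul_left (q - 1) (h K π h1 h2 h3 U σ h4 x rfl)
  exact Nat.lt_succ_iff.1 (lt_of_mul_lt_mul_left (a := q) (by rw [Nat.mul_succ]; omega) (Nat.zero_le _))

/-- the centre of `r ^ (1 + 2)` -/
theorem eb_heis {r : ℕ} (hr : r.Prime) (hrp : r ≠ p) (hrm : r.Coprime m) {a b : S} (h : Heis.Rel r a b s)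
    (J : Finset (ZMod r)) (hJ : ∀ j ∈ J, ∃ (g : S) (i l : ℕ), g⁻¹ * s * g = s ^ i ∧ j = ((i * p ^ l : ℕ) : ZMod r)) :
    EB p m s (J.card * r) := by
  intro K _ _ π h1 h2 h3 U _ _ _ σ h4 x h5
  have := Fact.mk hr
  obtain ⟨z, h6, h7, h8⟩ := lift_mem h3 hrm (h5 ▸ h.wp)
  obtain ⟨a', b', H⟩ := lift_rel h1 h2 h3 hrm h (h7.trans h5) h8
  refine le_trans (heis_J (ρ := σ) (Q := Heis.gp H) hr h8 (cast_ne hr hrp) (fun e => H.w1 (h4 (e.trans (map_one σ).symm)))
    (fun q hq => (Heis.w_comm H hq).symm) (heis_comm H) (zpowers z)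
    (fun t ht h => by_contra fun h1 => h (Heis.center_le H ht fun x hx => by_contra fun h2 => h1 ⟨x, hx, h2⟩))
    (m := r) ?_ J fun j hj => ?_) (cod_mono (zpowers_le.2 h6))
  · have h9 := ((zpowers z).subgroupOf (Heis.gp H)).card_mul_index
    rw [Nat.card_congr (subgroupOfEquivOfLe (zpowers_le.2 (Heis.w_mem H))).toEquiv, Nat.card_zpowers,
      Heis.orderOf_w H, Heis.card H, pow_succ'] at h9
    exact (Nat.eq_of_mul_eq_mul_left hr.pos h9).ge
  · obtain ⟨g, i, l, h9, rfl⟩ := hJ j hj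
    obtain ⟨g, rfl⟩ := h1 g
    refine ⟨g, i, l, lift_unique h2 h3 hrm (by rw [map_mul, map_mul, map_inv, map_pow, h7, h5, h9]) ?_
      (by rw [← pow_mul, mul_comm, pow_mul, h8, one_pow]), by rw [ZMod.card]⟩
    have := @conj_pow K _ r g⁻¹ z
    rw [inv_inv] at this
    rw [this, h8]
    group

/-! ### rows -/

section

variable {Y : Type} [Group Y] [Finite Y] {V : Type} [AddCommGroup V] [Module (ZMod p) V] [Finite V]
  {K : Subgroup Y} {ρ : Representation (ZMod p) Y V} {π : K →* S} {φ : Y →* MulAut S}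

theorem EB.sit (h : EB p m s n) (H : Sit p K ρ π φ) (hm : HasCyclicSchurMultiplier S m) {x : K} (hx : π x = s) :
    n ≤ cod ρ (zpowers (x : Y)) := by
  have h1 := h K π H.surj H.ker_π.le (H.ker_π ▸ H.toFrm.card_center_dvd' H.toStp.perfect hm) V (ρ.comp K.subtype)
    (H.faithful.comp K.subtype_injective) x hx
  rwa [cod_comp, MonoidHom.map_zpowers] at h1

omit [Finite V] in
theorem card_img (H : Sit p K ρ π φ) {A : Subgroup Y} (hA : IsPGroup p A) :
    Nat.card ((A.subgroupOf K).map π) * K.relIndex A = Nat.card A := by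
  have h1 : π.ker ⊓ A.subgroupOf K = ⊥ := eq_bot_iff.2 fun x hx => by
    have h2 : (x : Y) ∈ A ⊓ centralizer (K : Set Y) := ⟨hx.2, H.toFrm.π_eq_one_iff.1 hx.1⟩
    rw [H.toStp.eq_bot_of_le_centralizer hA.to_inf_left inf_le_right] at h2
    exact Subtype.ext h2
  rw [← relIndex_ker, ← inf_relIndex_right, h1, relIndex_bot_left, ← inf_subgroupOf_right,
    Nat.card_congr (subgroupOfEquivOfLe inf_le_right).toEquiv, ← Nat.card_congr (subgroupOfEquivOfLe inf_le_left).toEquiv,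
    inf_subgroupOf_left, relIndex, card_mul_index]

omit [Finite Y] [Finite V] in
theorem elemAb_img {A : Subgroup Y} (hA : IsElementaryAbelian p A) :
    IsElementaryAbelian p ((A.subgroupOf K).map π) :=
  elemAb_map (elemAb_of (fun _ ha _ hb => Subtype.ext (elemAb_comm hA ha hb))
    fun a ha => Subtype.ext (hA.2 a ha)) π

end

/-- `p` does not divide the order of the outer automorphism group -/
theorem row_odd (ho : ¬ p ∣ Nat.card (Out S)) (hm : HasCyclicSchurMultiplier S m)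
    (h : ∀ E : Subgroup S, IsElementaryAbelian p E → ∀ j, small p < j → Nat.card E = p ^ j →
      ∃ t ∈ E, EB p m t (2 * j + 1)) : Row p S := by
  refine ⟨row88_of_sit fun Y _ _ V _ _ _ K ρ π φ H A hA => ⟨A, hA, by_contra fun hc => ?_⟩, row89_of_not_dvd ho⟩
  obtain ⟨j, -, h1, h2⟩ := hA.exists_card
  have h3 := card_img H (elemAb_isPGroup hA.1)
  rw [relIndex_eq_one.2 (H.toFrm.le_of_not_dvd (elemAb_isPGroup hA.1) ho), mul_one, h1] at h3
  obtain ⟨_, ⟨x, h4, rfl⟩, h5⟩ := h _ (elemAb_img hA.1) j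
    ((Nat.pow_dvd_pow_iff_le_right hp.out.one_lt).1 (h1 ▸ hA.pow_dvd_of_not_cub hc)) h3
  have h6 := (h5.sit H hm rfl).trans (cod_mono (zpowers_le.2 h4))
  omega

omit hp in
/-- characteristic two, outer automorphism group of order at most two -/
theorem noOff_two (ho : Nat.card (Out S) ∣ 2) (hm : HasCyclicSchurMultiplier S m) (he : 2 ∣ Nat.card S)
    (h5 : ∀ t : S, orderOf t = 2 → EB 2 m t 5)
    (h : ∀ E : Subgroup S, IsElementaryAbelian 2 E → ∀ j, 0 < j → Nat.card E = 2 ^ j →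
      ∃ t ∈ E, EB 2 m t (2 * j + 3)) : NoOff 2 S := by
  refine noOff_of_sit fun Y _ _ V _ _ _ K ρ π φ H A hA => ?_
  classical
  obtain ⟨r, h0, h1, h2⟩ := hA.exists_card
  have : Finite S := Finite.of_surjective π H.surj
  have h3 := card_img H (elemAb_isPGroup hA.1)
  obtain ⟨j, hj⟩ := (elemAb_isPGroup (elemAb_img (π := π) hA.1)).exists_card_eq
  have h4 : r ≤ j + 1 := (Nat.pow_le_pow_iff_right one_lt_two).1 (by
    rw [← h1, ← h3, hj, pow_succ]
    exact Nat.mul_le_mul_left _ (Nat.le_of_dvd two_pos ((H.toFrm.relIndex_dvd A).trans ho)))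
  rcases j.eq_zero_or_pos with rfl | h6
  swap
  · obtain ⟨_, ⟨x, h4, rfl⟩, h5⟩ := h _ (elemAb_img hA.1) j h6 hj
    have h6 := (h5.sit H hm rfl).trans (cod_mono (zpowers_le.2 h4))
    omega
  obtain ⟨⟨u, hu⟩, h6⟩ := ne_bot_iff_exists_ne_one.1 hA.2.1
  have h7 : u ≠ 1 := fun e => h6 (Subtype.ext e)
  have h8 := hA.1.2 u hu
  have h9 : u ∉ K := fun e => h7 (H.toStp.eq_one_of_mem_centralizer (n := 1) h8 (H.toFrm.π_eq_one_iff (x := ⟨u, e⟩).1
    (mem_bot.1 (card_eq_one.1 hj ▸ mem_map_of_mem π (show (⟨u, e⟩ : K) ∈ A.subgroupOf K from hu)))))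
  have := H.normal
  obtain ⟨P, hP⟩ := (elemAb_isPGroup hA.1).exists_le_sylow
  by_cases hi : ∀ g : Y, g * u * g⁻¹ ∈ P → g * u * g⁻¹ = u
  · obtain ⟨N, h10, h11, h12⟩ := S0215.result P u (orderOf_eq_prime h8 h7) (hP hu) hi
    rcases H.toStp.normal_cases (N := N) (by rw [normalizer_eq_top]; exact le_top) with e | e
    · exact h11.not_two_dvd_nat ((he.mul_left _).trans (H.toFrm.card_K ▸ card_dvd_of_le e))
    · refine h9 (H.cent (H.toStp.le_centralizer_of_commutator (N := A) (commutator_le.2 fun a ha g _ => ?_) hu))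
      have h13 : A = zpowers u := (eq_of_le_of_card_ge (zpowers_le.2 hu) (by
        rw [Nat.card_zpowers, orderOf_eq_prime h8 h7, h1, show r = 1 by omega, pow_one])).symm
      rw [h13, mem_zpowers_iff_mem_range_orderOf, orderOf_eq_prime h8 h7] at ha
      obtain ⟨i, hi, rfl⟩ := Finset.mem_image.1 ha
      rcases (by have := Finset.mem_range.1 hi; omega : i = 0 ∨ i = 1) with rfl | rfl
      · rw [pow_zero, commutatorElement_one_left]; exact one_mem _
      · rw [pow_one]; exact e (h12 g)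
  push Not at hi
  obtain ⟨g, h10, h11⟩ := hi
  have h12 : K.index = 2 := ((Nat.dvd_prime Nat.prime_two).1 (H.toFrm.index_dvd.trans ho)).resolve_left fun e =>
    h9 (index_eq_one.1 e ▸ mem_top u)
  have h13 : g * u * g⁻¹ * u ∈ K := (mul_mem_iff_of_index_two h12).2
    (iff_of_false (fun e => h9 (by simpa [mul_assoc] using this.conj_mem' _ e g)) h9)
  obtain ⟨e, he⟩ := P.isPGroup' ⟨_, mul_mem h10 (hP hu)⟩
  obtain ⟨l, -, hl⟩ := (Nat.dvd_prime_pow Nat.prime_two).1
    (orderOf_dvd_of_pow_eq_one (show (g * u * g⁻¹ * u) ^ 2 ^ e = 1 from congrArg Subtype.val he))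
  obtain ⟨⟨y, hy⟩, h14⟩ := exists_prime_orderOf_dvd_card' (G := zpowers (g * u * g⁻¹ * u)) 2 (by
    rw [Nat.card_zpowers, hl]
    refine dvd_pow_self 2 fun e => h11 ?_
    rw [e, pow_zero, orderOf_eq_one_iff, mul_eq_one_iff_eq_inv] at hl
    rw [hl, inv_eq_iff_mul_eq_one, ← pow_two, h8])
  rw [← orderOf_coe] at h14
  have h15 : y ^ 2 = 1 := h14 ▸ pow_orderOf_eq_one y
  have h16 := (h5 (π ⟨y, zpowers_le.2 h13 hy⟩) (orderOf_eq_prime (by
    rw [← map_pow, show (⟨y, _⟩ : K) ^ 2 = 1 from Subtype.ext h15, map_one]) fun e => by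
      have h17 : y = 1 := H.toStp.eq_one_of_mem_centralizer (n := 1) h15 (H.toFrm.π_eq_one_iff.1 e)
      rw [show ((⟨y, hy⟩ : zpowers _) : Y) = 1 from h17, orderOf_one] at h14
      omega)).sit H hm rfl
  have h17 := (cod_mono (ρ := ρ) (zpowers_le.2 hy)).trans (cod_zpowers_mul_le _ _)
  have h18 := cod_mono (ρ := ρ) (zpowers_le.2 hu)
  rw [cod_zpowers_conj] at h17
  dsimp only at h16
  omega

/-! ### elementary abelian subgroups -/

variable [Finite S]

theorem le_of_card {E : Subgroup S} {j e : ℕ} (hj : Nat.card E = p ^ j) (he : ¬ p ^ (e + 1) ∣ Nat.card S) : j ≤ e :=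
  not_lt.1 fun h => he ((pow_dvd_pow p h).trans (hj ▸ card_subgroup_dvd_card E))

theorem exists_elt {E : Subgroup S} {j : ℕ} (h0 : 0 < j) (hj : Nat.card E = p ^ j) :
    ∃ t ∈ E, orderOf t = p := by
  obtain ⟨t, ht⟩ := exists_prime_orderOf_dvd_card' (G := E) p (hj ▸ dvd_pow_self p h0.ne')
  exact ⟨t, t.2, by rwa [orderOf_coe]⟩

/-- a subgroup whose order is the full power of `p` contains a conjugate of every `p`-element -/
theorem exists_conj {E : Subgroup S} {j e : ℕ} (hj : Nat.card E = p ^ j) (he : ¬ p ^ (j + 1) ∣ Nat.card S)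
    (hs : s ^ p ^ e = 1) : ∃ t ∈ E, IsConj t s := by
  obtain ⟨l, -, hl⟩ := (Nat.dvd_prime_pow hp.out).1 (orderOf_dvd_of_pow_eq_one hs)
  obtain ⟨Q, hQ⟩ := (IsPGroup.of_card (G := zpowers s) (by rw [Nat.card_zpowers, hl])).exists_le_sylow
  obtain ⟨g, hg⟩ := MulAction.exists_smul_eq S Q ((IsPGroup.of_card hj).toSylow (fun ⟨c, hc⟩ => he (by
    rw [← E.card_mul_index, hj, hc, pow_succ, ← mul_assoc]; exact dvd_mul_right _ _)))
  have h : _ ∈ ((g • Q : Sylow p S) : Subgroup S) := smul_mem_pointwise_smul s (MulAut.conj g) _ (hQ (mem_zpowers s))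
  rw [hg] at h
  exact ⟨_, h, (isConj_iff.2 ⟨g, rfl⟩).symm⟩

/-- the Sylow subgroups are `p ^ (1 + 2)` -/
theorem heis_mem {a b : S} (h : Heis.Rel p a b s) (he : ¬ p ^ 4 ∣ Nat.card S) {E : Subgroup S}
    (hE : IsElementaryAbelian p E) {j : ℕ} (h2 : 2 ≤ j) (hj : Nat.card E = p ^ j) : j = 2 ∧ ∃ t ∈ E, IsConj t s := by
  obtain ⟨Q, hQ⟩ := (elemAb_isPGroup hE).exists_le_sylow
  obtain ⟨g, hg⟩ := MulAction.exists_smul_eq S Q ((Heis.isPGroup h).toSylow (fun ⟨c, hc⟩ => he (by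
    rw [← (Heis.gp h).card_mul_index, Heis.card h, hc, ← mul_assoc, ← pow_succ]; exact dvd_mul_right _ _)))
  have h3 : E.map (MulAut.conj g).toMonoidHom ≤ Heis.gp h := by
    rintro _ ⟨x, hx, rfl⟩
    have h : _ ∈ ((g • Q : Sylow p S) : Subgroup S) := smul_mem_pointwise_smul x (MulAut.conj g) _ (hQ hx)
    rwa [hg] at h
  have h4 := elemAb_map hE (MulAut.conj g).toMonoidHom
  have h5 := (card_map_conj g E).trans hj
  generalize hF : E.map (MulAut.conj g).toMonoidHom = F at h3 h4 h5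
  have h6 : ∀ x ∈ F ⊔ zpowers s, ∀ y ∈ F ⊔ zpowers s, x * y = y * x := by
    have h6 : zpowers s ≤ centralizer (F : Set S) := zpowers_le.2 fun x hx => (Heis.w_comm h (h3 hx)).symm
    have h7 : F ⊔ zpowers s ≤ centralizer (F : Set S) := sup_le (fun x hx y hy => elemAb_comm h4 hy hx) h6
    have h8 : F ⊔ zpowers s ≤ centralizer (zpowers s : Set S) := sup_le (le_centralizer_iff.1 h6) (le_centralizer _)
    exact fun x hx y hy => sup_le (le_centralizer_iff.1 h7) (le_centralizer_iff.1 h8) hy x hx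
  have h7 : F ⊔ zpowers s ≤ Heis.gp h := sup_le h3 (zpowers_le.2 (Heis.w_mem h))
  obtain ⟨l, h8, hl⟩ := (Nat.dvd_prime_pow hp.out).1 (Heis.card h ▸ card_dvd_of_le h7)
  have h9 : l ≠ 3 := fun e => by
    have h9 := eq_of_le_of_card_ge h7 (by rw [hl, e, Heis.card h])
    exact Heis.not_comm h (h6 _ (h9 ▸ Heis.b_mem h) _ (h9 ▸ Heis.a_mem h))
  have h10 : j ≤ l := (Nat.pow_dvd_pow_iff_le_right hp.out.one_lt).1 (h5 ▸ hl ▸ card_dvd_of_le le_sup_left)
  have h11 : F = F ⊔ zpowers s := eq_of_le_of_card_ge le_sup_left (by rw [hl, h5, show l = j by omega])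
  have h12 : s ∈ F := h11 ▸ mem_sup_right (mem_zpowers s)
  rw [← hF] at h12
  obtain ⟨t, ht, rfl⟩ := h12
  exact ⟨by omega, t, ht, isConj_iff.2 ⟨g, rfl⟩⟩

/-- primes whose square does not divide the order -/
theorem row_sq (ho : ¬ p ∣ Nat.card (Out S)) (hm : HasCyclicSchurMultiplier S m) (h : ¬ p ^ 2 ∣ Nat.card S) :
    Row p S :=
  row_odd ho hm fun _ _ _ h1 h2 => absurd (le_of_card h2 h) (not_le.2 ((one_le_small p).trans_lt h1))

end Cfsg.Agent.TwoF.SpD
end

-- part: TwoF/SpE/F22A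
section
prune_inst 0x4c01006615c001000001c001200003fc7f7000100006b0001c1c40d420c8aff4100020f21f8f03e0a092822e4403d8048131000b9420000002a000600411d01a080ab4022b218bc04140007807806000000000000000000000000000000041004000000000
set_option linter.all false
open scoped Cfsg.Agent.FastGrp

/-!
# TwoF / SP-E: tools for `Fi22` in characteristic two (helper95)

* `noOff_two'` : the criterion `SpD.noOff_two` (helper55) for covers with a kernel of odd order;
* `eb_cfg` : the involutions of the configuration of three arms.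
-/

set_option autoImplicit false
set_option maxHeartbeats 400000

namespace Cfsg.Agent.TwoF.SpE

open Cfsg Subgroup Module Cfsg.Agent.TwoF.Gen Cfsg.Agent.TwoF.SpD
open scoped commutatorElement

section crit

variable {m n : ℕ} {S : Type} [Group S] {s : S}

theorem eb_aut {p : ℕ} [Fact p.Prime] (h : EB p m s n) (θ : MulAut S) : EB p m (θ s) n := by
  intro K _ _ π h1 h2 h3 U _ _ _ σ h4 x h5
  have e : (θ.symm.toMonoidHom.comp π).ker = π.ker := by
    ext g; simp [MonoidHom.mem_ker]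
  exact h K (θ.symm.toMonoidHom.comp π) (θ.symm.surjective.comp h1) (e ▸ h2) (e ▸ h3) U σ h4 x (by simp [h5])

theorem eb_sit {p : ℕ} [hp : Fact p.Prime] {Y : Type} [Group Y] [Finite Y] {V : Type} [AddCommGroup V]
    [Module (ZMod p) V] [Finite V] {K : Subgroup Y} {ρ : Representation (ZMod p) Y V} {π : K →* S} {φ : Y →* MulAut S}
    (h : EB p m s n) (H : Sit p K ρ π φ) (hm : HasCyclicSchurMultiplier S (p * m)) {x : K} (hx : π x = s) :
    n ≤ cod ρ (zpowers (x : Y)) := by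
  have h1 := h K π H.surj H.ker_π.le (H.ker_π ▸ ((hp.out.coprime_iff_not_dvd.2 H.cop).symm).dvd_of_dvd_mul_left
    (H.toFrm.card_center_dvd' H.toStp.perfect hm)) V (ρ.comp K.subtype) (H.faithful.comp K.subtype_injective) x hx
  rwa [cod_comp, MonoidHom.map_zpowers] at h1

theorem noOff_two' (ho : Nat.card (Out S) ∣ 2) (hm : HasCyclicSchurMultiplier S (2 * m)) (he : 2 ∣ Nat.card S)
    (h5 : ∀ t : S, orderOf t = 2 → EB 2 m t 5)
    (h : ∀ E : Subgroup S, IsElementaryAbelian 2 E → ∀ j, 0 < j → Nat.card E = 2 ^ j →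
      ∃ t ∈ E, EB 2 m t (2 * j + 3)) : NoOff 2 S := by
  refine noOff_of_sit fun Y _ _ V _ _ _ K ρ π φ H A hA => ?_
  classical
  obtain ⟨r, h0, h1, h2⟩ := hA.exists_card
  have : Finite S := Finite.of_surjective π H.surj
  have h3 := card_img H (elemAb_isPGroup hA.1)
  obtain ⟨j, hj⟩ := (elemAb_isPGroup (elemAb_img (π := π) hA.1)).exists_card_eq
  have h4 : r ≤ j + 1 := (Nat.pow_le_pow_iff_right one_lt_two).1 (by
    rw [← h1, ← h3, hj, pow_succ]
    exact Nat.mul_le_mul_left _ (Nat.le_of_dvd two_pos ((H.toFrm.relIndex_dvd A).trans ho)))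
  rcases j.eq_zero_or_pos with rfl | h6
  swap
  · obtain ⟨_, ⟨x, h4, rfl⟩, h5⟩ := h _ (elemAb_img hA.1) j h6 hj
    have h6 := (eb_sit h5 H hm rfl).trans (cod_mono (zpowers_le.2 h4))
    omega
  obtain ⟨⟨u, hu⟩, h6⟩ := ne_bot_iff_exists_ne_one.1 hA.2.1
  have h7 : u ≠ 1 := fun e => h6 (Subtype.ext e)
  have h8 := hA.1.2 u hu
  have h9 : u ∉ K := fun e => h7 (H.toStp.eq_one_of_mem_centralizer (n := 1) h8 (H.toFrm.π_eq_one_iff (x := ⟨u, e⟩).1
    (mem_bot.1 (card_eq_one.1 hj ▸ mem_map_of_mem π (show (⟨u, e⟩ : K) ∈ A.subgroupOf K from hu)))))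
  have := H.normal
  obtain ⟨P, hP⟩ := (elemAb_isPGroup hA.1).exists_le_sylow
  by_cases hi : ∀ g : Y, g * u * g⁻¹ ∈ P → g * u * g⁻¹ = u
  · obtain ⟨N, h10, h11, h12⟩ := S0215.result P u (orderOf_eq_prime h8 h7) (hP hu) hi
    rcases H.toStp.normal_cases (N := N) (by rw [normalizer_eq_top]; exact le_top) with e | e
    · exact h11.not_two_dvd_nat ((he.mul_left _).trans (H.toFrm.card_K ▸ card_dvd_of_le e))
    · refine h9 (H.cent (H.toStp.le_centralizer_of_commutator (N := A) (commutator_le.2 fun a ha g _ => ?_) hu))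
      have h13 : A = zpowers u := (eq_of_le_of_card_ge (zpowers_le.2 hu) (by
        rw [Nat.card_zpowers, orderOf_eq_prime h8 h7, h1, show r = 1 by omega, pow_one])).symm
      rw [h13, mem_zpowers_iff_mem_range_orderOf, orderOf_eq_prime h8 h7] at ha
      obtain ⟨i, hi, rfl⟩ := Finset.mem_image.1 ha
      rcases (by have := Finset.mem_range.1 hi; omega : i = 0 ∨ i = 1) with rfl | rfl
      · rw [pow_zero, commutatorElement_one_left]; exact one_mem _
      · rw [pow_one]; exact e (h12 g)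
  push Not at hi
  obtain ⟨g, h10, h11⟩ := hi
  have h12 : K.index = 2 := ((Nat.dvd_prime Nat.prime_two).1 (H.toFrm.index_dvd.trans ho)).resolve_left fun e =>
    h9 (index_eq_one.1 e ▸ mem_top u)
  have h13 : g * u * g⁻¹ * u ∈ K := (mul_mem_iff_of_index_two h12).2
    (iff_of_false (fun e => h9 (by simpa [mul_assoc] using this.conj_mem' _ e g)) h9)
  obtain ⟨e, he⟩ := P.isPGroup' ⟨_, mul_mem h10 (hP hu)⟩
  obtain ⟨l, -, hl⟩ := (Nat.dvd_prime_pow Nat.prime_two).1
    (orderOf_dvd_of_pow_eq_one (show (g * u * g⁻¹ * u) ^ 2 ^ e = 1 from congrArg Subtype.val he))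
  obtain ⟨⟨y, hy⟩, h14⟩ := exists_prime_orderOf_dvd_card' (G := zpowers (g * u * g⁻¹ * u)) 2 (by
    rw [Nat.card_zpowers, hl]
    refine dvd_pow_self 2 fun e => h11 ?_
    rw [e, pow_zero, orderOf_eq_one_iff, mul_eq_one_iff_eq_inv] at hl
    rw [hl, inv_eq_iff_mul_eq_one, ← pow_two, h8])
  rw [← orderOf_coe] at h14
  have h15 : y ^ 2 = 1 := h14 ▸ pow_orderOf_eq_one y
  have h16 := eb_sit (h5 (π ⟨y, zpowers_le.2 h13 hy⟩) (orderOf_eq_prime (by
    rw [← map_pow, show (⟨y, _⟩ : K) ^ 2 = 1 from Subtype.ext h15, map_one]) fun e => by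
      have h17 : y = 1 := H.toStp.eq_one_of_mem_centralizer (n := 1) h15 (H.toFrm.π_eq_one_iff.1 e)
      rw [show ((⟨y, hy⟩ : zpowers _) : Y) = 1 from h17, orderOf_one] at h14
      omega)) H hm rfl
  have h17 := (cod_mono (ρ := ρ) (zpowers_le.2 hy)).trans (cod_zpowers_mul_le _ _)
  have h18 := cod_mono (ρ := ρ) (zpowers_le.2 hu)
  rw [cod_zpowers_conj] at h17
  dsimp only at h16
  omega

end crit

section cfg

open Cfsg.Agent.Omega.TwoF.FiCfg

variable {Y : Type*} [Group Y] [Finite Y] {V : Type*} [AddCommGroup V] [Module (ZMod 2) V] [Finite V]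
  {ρ : Representation (ZMod 2) Y V}

/-- an involution that inverts commuting elements of order three -/
theorem inv_bound {l : List Y} {t : Y} (ht : t ^ 2 = 1) (h3 : ∀ g ∈ l, g ^ 3 = 1)
    (hc : ∀ g ∈ l, ∀ h ∈ l, g * h = h * g) (hi : ∀ g ∈ l, t * g * t⁻¹ = g⁻¹) :
    finrank (ZMod 2) V ≤ 2 * cod ρ (zpowers t) + dl ρ l := by
  have h1 : closure {g | g ∈ l} ≤ centralizer (closure {g | g ∈ l} : Set Y) := by
    rw [centralizer_closure]
    exact (closure_le _).2 fun a ha b hb => hc b hb a ha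
  have h2 : ∀ a ∈ closure {g | g ∈ l}, a ^ 3 = 1 ∧ t * a * t⁻¹ = a⁻¹ := fun a ha => by
    induction ha using closure_induction with
    | mem g hg => exact ⟨h3 g hg, hi g hg⟩
    | one => simp
    | mul a b ha hb ia ib =>
      have e : Commute a b := h1 hb a ha
      rw [e.mul_pow, ia.1, ib.1, one_mul, ← conj_mul, ia.2, ib.2, e.eq, mul_inv_rev]
      exact ⟨rfl, rfl⟩
    | inv a _ ia => rw [inv_pow, ia.1, inv_one, ← conj_inv, ia.2]; exact ⟨rfl, rfl⟩
  have : Fact (Nat.Prime 3) := ⟨Nat.prime_three⟩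
  obtain ⟨j, hj⟩ := (show IsPGroup 3 (closure {g | g ∈ l}) from
    fun g => ⟨1, Subtype.ext (h2 g g.2).1⟩).exists_card_eq
  obtain ⟨i, -, hi'⟩ := (Nat.dvd_prime_pow Nat.prime_two).1 (orderOf_dvd_of_pow_eq_one (n := 2 ^ 1) ht)
  have h4 := coprime_bound (ρ := ρ) (R := closure {g | g ∈ l}) (A := zpowers t) (p := 2)
    (fun a ha b hb => h1 hb a ha) (by rw [hj, Nat.cast_pow]; exact pow_ne_zero _ three_ne)
    (zpowers_le.2 (mem_normalizer_fintype fun a ha => by rw [(h2 a ha).2]; exact inv_mem ha))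
    (IsPGroup.of_card (by rw [Nat.card_zpowers, hi']))
  have h5 := le_cod_add (ρ := ρ) (l := l) (B := ⁅closure {g | g ∈ l}, zpowers t⁆) fun g hg => by
    have h6 := pow_mem (commutator_mem_commutator (subset_closure (k := {g | g ∈ l}) hg) (mem_zpowers t)) 2
    rwa [commutatorElement_def, mul_assoc g, mul_assoc g, ← conj_inv, hi g hg, inv_inv, ← pow_two, ← pow_mul,
      pow_succ, h3 g hg, one_mul] at h6
  omega

variable {t : Fin 3 → Y} {σ c : Y}

omit [Finite Y] in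
theorem tri_cov (h : Cov t σ c) :
    Tri c σ (fun k => Z t * c ^ (k : ℕ)) (fun k => cj σ k (X t)) fun k => cj σ k (Omega.TwoF.FiCfg.Y t) where
  c3 := h.c3
  z3 i := by rw [← h.cjZ, ← map_pow, h.z3, map_one]
  x3 i := h.xk3 i
  cen := h.cc
  zz i j := by rw [← h.cjZ j, h.zk' j i Cov.Z_mem]
  zx i j := h.zk' j i Cov.X_mem
  zy i j := h.zk' j i Cov.Y_mem
  xx i j := by
    rcases eq_or_ne i j with rfl | e
    · rfl
    · exact h.arms e Cov.X_mem Cov.X_mem
  xy i j e := h.arms e Cov.X_mem Cov.Y_mem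
  conj i := h.conjk i
  z1 := by simp
  z2 := by simp
  sz := by simpa using h.sz

theorem cov_bound (h : Cov t σ c) (hρ : Function.Injective ρ) (hz : Z t ≠ 1) :
    20 ≤ cod ρ (zpowers (cj σ 1 (t 0) * cj σ 2 (t 0))) ∧
      24 ≤ cod ρ (zpowers (cj σ 0 (t 0) * (cj σ 1 (t 0) * cj σ 2 (t 0)))) ∧
        (cj σ 1 (t 0) * cj σ 2 (t 0)) ^ 2 = 1 ∧ (cj σ 0 (t 0) * (cj σ 1 (t 0) * cj σ 2 (t 0))) ^ 2 = 1 := by
  have T := tri_cov h
  obtain ⟨-, h1, h2⟩ := T.bound hρ (by simpa using hz)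
  have i0 : (t 0)⁻¹ = t 0 := inv_eq_of_mul_eq_one_left (by rw [← pow_two, h.t2])
  have i1 : (t 1)⁻¹ = t 1 := inv_eq_of_mul_eq_one_left (by rw [← pow_two, h.t2])
  have e1 : ∀ k : ℕ, cj σ k (t 0) * cj σ k (X t) * (cj σ k (t 0))⁻¹ = (cj σ k (X t))⁻¹ := fun k => by
    rw [← map_inv, ← map_mul, ← map_mul, ← map_inv, X, mul_inv_rev, i0, i1, ← mul_assoc, ← pow_two, h.t2, one_mul]
  have e2 : ∀ k l : Fin 3, k ≠ l → ∀ g ∈ Cov.A t, cj σ k (t 0) * cj σ l g * (cj σ k (t 0))⁻¹ = cj σ l g :=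
    fun k l e g hg => by rw [(h.arms e (Cov.t_mem 0) hg).eq, mul_inv_cancel_right]
  have e3 : ∀ k : ℕ, cj σ k (t 0) ^ 2 = 1 := fun k => by rw [← map_pow, h.t2, map_one]
  have e4 : ∀ a b g : Y, a * b * g * (a * b)⁻¹ = a * (b * g * b⁻¹) * a⁻¹ := fun a b g => by group
  have c12 : Commute (cj σ 1 (t 0)) (cj σ 2 (t 0)) := h.arms (k := 1) (l := 2) (by decide) (Cov.t_mem 0) (Cov.t_mem 0)
  have c01 : Commute (cj σ 0 (t 0)) (cj σ 1 (t 0)) := h.arms (k := 0) (l := 1) (by decide) (Cov.t_mem 0) (Cov.t_mem 0)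
  have c02 : Commute (cj σ 0 (t 0)) (cj σ 2 (t 0)) := h.arms (k := 0) (l := 2) (by decide) (Cov.t_mem 0) (Cov.t_mem 0)
  have s1 : (cj σ 1 (t 0) * cj σ 2 (t 0)) ^ 2 = 1 := by rw [c12.mul_pow, e3, e3, one_mul]
  have s2 : (cj σ 0 (t 0) * (cj σ 1 (t 0) * cj σ 2 (t 0))) ^ 2 = 1 := by
    rw [(c01.mul_right c02).mul_pow, e3, s1, one_mul]
  have a01 : _ * cj σ 1 _ * _ = cj σ 1 _ := e2 0 1 (by decide) _ (inv_mem Cov.X_mem)
  have a02 : _ * cj σ 2 _ * _ = cj σ 2 _ := e2 0 2 (by decide) _ (inv_mem Cov.X_mem)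
  have a12 : _ * cj σ 2 _ * _ = cj σ 2 _ := e2 1 2 (by decide) _ (inv_mem Cov.X_mem)
  have a10 : _ * cj σ 0 _ * _ = cj σ 0 _ := e2 1 0 (by decide) _ Cov.X_mem
  have a20 : _ * cj σ 0 _ * _ = cj σ 0 _ := e2 2 0 (by decide) _ Cov.X_mem
  have a21 : _ * cj σ 1 _ * _ = cj σ 1 _ := e2 2 1 (by decide) _ Cov.X_mem
  rw [map_inv] at a01 a02 a12
  have b1 : cj σ 1 (t 0) * cj σ 2 (t 0) * cj σ 1 (X t) * (cj σ 1 (t 0) * cj σ 2 (t 0))⁻¹ = (cj σ 1 (X t))⁻¹ :=
    (e4 _ _ _).trans ((congrArg (fun g => _ * g * _) a21).trans (e1 1))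
  have b2 : cj σ 1 (t 0) * cj σ 2 (t 0) * cj σ 2 (X t) * (cj σ 1 (t 0) * cj σ 2 (t 0))⁻¹ = (cj σ 2 (X t))⁻¹ :=
    (e4 _ _ _).trans ((congrArg (fun g => _ * g * _) (e1 2)).trans a12)
  have b0 : cj σ 1 (t 0) * cj σ 2 (t 0) * cj σ 0 (X t) * (cj σ 1 (t 0) * cj σ 2 (t 0))⁻¹ = cj σ 0 (X t) :=
    (e4 _ _ _).trans ((congrArg (fun g => _ * g * _) a20).trans a10)
  have m3 : ∀ g ∈ [cj σ 0 (X t), cj σ 1 (X t), cj σ 2 (X t)], ∃ k : Fin 3, g = cj σ k (X t) := by
    simp only [List.forall_mem_cons]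
    exact ⟨⟨0, rfl⟩, ⟨1, rfl⟩, ⟨2, rfl⟩, List.forall_mem_nil _⟩
  have k3 : ∀ g ∈ [cj σ 0 (X t), cj σ 1 (X t), cj σ 2 (X t)], g ^ 3 = 1 := fun g hg => by
    obtain ⟨k, rfl⟩ := m3 g hg
    exact T.x3 k
  have kc : ∀ g ∈ [cj σ 0 (X t), cj σ 1 (X t), cj σ 2 (X t)], ∀ f ∈ [cj σ 0 (X t), cj σ 1 (X t), cj σ 2 (X t)],
      g * f = f * g := fun g hg f hf => by
    obtain ⟨k, rfl⟩ := m3 g hg
    obtain ⟨l, rfl⟩ := m3 f hf
    exact T.xx k l
  have h3 := inv_bound (ρ := ρ) (l := [cj σ 1 (X t), cj σ 2 (X t)]) s1 (fun g hg => k3 g (List.mem_cons_of_mem _ hg))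
    (fun g hg f hf => kc g (List.mem_cons_of_mem _ hg) f (List.mem_cons_of_mem _ hf))
    (by simp only [List.forall_mem_cons]; exact ⟨b1, b2, List.forall_mem_nil _⟩)
  have h4 := inv_bound (ρ := ρ) s2 k3 kc (by
    simp only [List.forall_mem_cons, e4 (cj σ 0 (t 0)), b0, b1, b2]
    exact ⟨e1 0, a01, a02, List.forall_mem_nil _⟩)
  change 40 + dl ρ [cj σ 1 (X t), cj σ 2 (X t)] ≤ _ at h1
  change 48 + dl ρ [cj σ 0 (X t), cj σ 1 (X t), cj σ 2 (X t)] ≤ _ at h2
  exact ⟨by omega, by omega, s1, s2⟩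

theorem eb_cfg {S : Type} [Group S] {t : Fin 3 → S} {σ : S} (h : Cfg t σ) (hz : Z t ≠ 1) :
    EB 2 3 (cj σ 1 (t 0) * cj σ 2 (t 0)) 20 ∧ EB 2 3 (cj σ 0 (t 0) * (cj σ 1 (t 0) * cj σ 2 (t 0))) 24 := by
  have key : ∀ (K : Type) [Group K] [Finite K] (π : K →* S), Function.Surjective π → π.ker ≤ center K →
      Nat.card π.ker ∣ 3 → ∃ (t' : Fin 3 → K) (σ' c : K), Cov t' σ' c ∧ Z t' ≠ 1 ∧
        ∀ k, π (cj σ' k (t' 0)) = cj σ k (t 0) := fun K _ _ π h1 h2 h3 => by
    have ho : Odd (Nat.card π.ker) := Odd.of_dvd_nat (by decide) h3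
    obtain ⟨t', σ₀, c, h4, -, C⟩ := h.lift h1 h2 ho
    obtain ⟨σ', rfl⟩ := h1 σ
    have hZ : π (Z t') = Z t := by rw [map_Z]; simp only [h4]
    have hc : ∀ {a : K}, π a = 1 → ∀ g, a * g = g * a := fun ha g => (mem_center_iff.1 (h2 ha) g).symm
    refine ⟨t', σ', (Z t')⁻¹ * (σ' * Z t' * σ'⁻¹), ⟨C.t2, hc (by rw [map_pow, h.s3]), C.x3, fun i j => ?_, C.zt,
      hc ?_, by group⟩, fun e => hz (by rw [← hZ, e, map_one]), fun k => by simp only [cj_apply, map_mul, map_inv, map_pow, h4]⟩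
    · exact Omega.Lie.Heis.comm_of_comm h2 ho.coprime_two_left (C.t2 i)
        (by rw [map_mul, map_mul, map_inv, h4, h4, h.arm])
    · rw [map_mul, map_mul, map_mul, map_inv, map_inv, hZ, h.zs]
      group
  have last : ∀ (K : Type) [Group K] [Finite K] (π : K →* S), π.ker ≤ center K → Nat.card π.ker ∣ 3 → ∀ x y : K,
      π x = π y → y ^ 2 = 1 → zpowers y ≤ zpowers x := fun K _ _ π h2 h3 x y e hy => by
    obtain ⟨w, h4, h5, h6⟩ := lift_mem (r := 2) h3 (by decide) (x := x) (by rw [e, ← map_pow, hy, map_one])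
    exact zpowers_le.2 (lift_unique h2 h3 (by decide) (h5.trans e) h6 hy ▸ h4)
  constructor
  · intro K _ _ π h1 h2 h3 U _ _ _ ρ h4 x h5
    obtain ⟨t', σ', c, C, h6, h7⟩ := key K π h1 h2 h3
    obtain ⟨h8, -, h9, -⟩ := cov_bound C h4 h6
    exact h8.trans (cod_mono (last K π h2 h3 x _ (by rw [h5, map_mul, h7, h7]) h9))
  · intro K _ _ π h1 h2 h3 U _ _ _ ρ h4 x h5
    obtain ⟨t', σ', c, C, h6, h7⟩ := key K π h1 h2 h3
    obtain ⟨-, h8, -, h9⟩ := cov_bound C h4 h6
    exact h8.trans (cod_mono (last K π h2 h3 x _ (by rw [h5, map_mul, map_mul, h7, h7, h7]) h9))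

end cfg

end Cfsg.Agent.TwoF.SpE
end

-- part: TwoF/SpD/Blk_mg
section
prune_inst 0x4c0102620482210000018000210003c02c600000200680000d0800c400d0f390000400901c8a0380208bc22c00030004002100080400000000a00000000040000000000001000a000200000000000000000000000000000000000000000041004000000000
set_option linter.all false
open scoped Cfsg.Agent.FastGrp

-- part: TwoF/SpD/Blk
section
/-!
# TwoF SP-D: tables whose rows are sums over Galois orbits (helper29)

* `exists_prod` : products of conjugates, with a certificate that uses all the rows of the table;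
* `count` : the numbers of the elements of two types in a subgroup.
-/

set_option autoImplicit false

namespace Cfsg.Agent.TwoF.SpD.Blk

open Cfsg Subgroup Cfsg.Agent.TAB.Eng Cfsg.Agent.TAB.Use Cfsg.Agent.TwoF.SpO

universe u

variable {G : Type u} [Group G] {D : Dat} {T : TD G D} {R : Rows} {χ : ℕ → G → ℂ}

/-- the value of the characters of an orbit -/
def colV (t : ℕ) (r : List (ℕ × ℤ) × List ℤ) : ℤ := r.2.getD t 0 / r.1.length

/-- the relations are the sums over a partition -/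
def part (R : Rows) : Bool := R.rel.flatMap Prod.fst == (List.range R.n).map fun j => (j, 1)

/-- the column `t` has the norm `c` -/
def colB (R : Rows) (t c : ℕ) : Bool :=
  (R.rel.all fun r => r.2.getD t 0 == r.1.length * colV t r) &&
    (R.rel.map fun r => r.1.length * (colV t r * colV t r)).sum == (c : ℤ)

theorem sum_nonneg_eq {α : Type*} (f : α → ℝ) (hf : ∀ a, 0 ≤ f a) :
    ∀ l : List α, (l.map f).sum = 0 → ∀ a ∈ l, f a = 0
  | [], _, _, ha => absurd ha List.not_mem_nil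
  | b :: l, h, a, ha => by
    rw [List.map_cons, List.sum_cons] at h
    have h1 := hf b
    have h2 : 0 ≤ (l.map f).sum := List.sum_nonneg fun x hx => by
      obtain ⟨y, -, rfl⟩ := List.mem_map.1 hx
      exact hf y
    rcases List.mem_cons.1 ha with rfl | ha
    · linarith
    · exact sum_nonneg_eq f hf l (by linarith) a ha

theorem sum_flat {α β : Type*} (g : β → ℝ) (f : α → List β) :
    ∀ l : List α, (l.map fun a => ((f a).map g).sum).sum = ((l.flatMap f).map g).sum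
  | [] => rfl
  | a :: l => by rw [List.map_cons, List.sum_cons, sum_flat g f l, List.flatMap_cons, List.map_append, List.sum_append]

theorem sum_range_list (f : ℕ → ℝ) (n : ℕ) : ((List.range n).map f).sum = ∑ i ∈ Finset.range n, f i := by
  induction n with
  | zero => rfl
  | succ n ih => rw [List.range_succ, List.map_append, List.sum_append, ih, Finset.sum_range_succ]; simp

theorem sum_sub_list {α : Type*} (f g : α → ℝ) :
    ∀ l : List α, (l.map fun a => f a - g a).sum = (l.map f).sum - (l.map g).sum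
  | [] => by simp
  | a :: l => by
    simp only [List.map_cons, List.sum_cons, sum_sub_list f g l]
    ring

theorem sum_normSq_sub (z : ℕ → ℂ) (v : ℝ) : ∀ l : List (ℕ × ℤ), (∀ p ∈ l, p.2 = 1) →
    (l.map fun p => Complex.normSq (z p.1 - v)).sum = (l.map fun p => Complex.normSq (z p.1)).sum -
      2 * v * ((l.map fun p => (p.2 : ℂ) * z p.1).sum).re + l.length * (v * v)
  | [], _ => by simp
  | p :: l, h => by
    simp only [List.map_cons, List.sum_cons, List.length_cons]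
    rw [sum_normSq_sub z v l fun q hq => h q (List.mem_cons_of_mem _ hq), h p List.mem_cons_self]
    simp [Complex.normSq_apply]
    ring

theorem mem_part (h : part R = true) {r : List (ℕ × ℤ) × List ℤ} (hr : r ∈ R.rel) {p : ℕ × ℤ} (hp : p ∈ r.1) :
    p.1 < R.n ∧ p.2 = 1 := by
  have h5 : p ∈ R.rel.flatMap Prod.fst := List.mem_flatMap.2 ⟨r, hr, hp⟩
  rw [beq_iff_eq.1 h] at h5
  obtain ⟨j, hj, rfl⟩ := List.mem_map.1 h5
  exact ⟨List.mem_range.1 hj, rfl⟩

/-- **the values on a class** -/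
theorem col [Finite G] (hE : Enum G R.n R.d χ) (hR : Rel T R χ) (h1 : part R = true) {x : G} {c : ℕ}
    (hx : Nat.card (centralizer ({x} : Set G)) = c) (hc : colB R (T.ty x) c = true) :
    ∀ r ∈ R.rel, nth r.2 (T.ty x) = r.1.length * colV (T.ty x) r ∧ ∀ p ∈ r.1, χ p.1 x = colV (T.ty x) r := by
  simp only [colB, Bool.and_eq_true, beq_iff_eq, List.all_eq_true] at hc
  obtain ⟨h2, h3⟩ := hc
  have h5 : (R.rel.map fun r => (r.1.map fun p => Complex.normSq (χ p.1 x)).sum).sum = c := by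
    rw [sum_flat (fun p : ℕ × ℤ => Complex.normSq (χ p.1 x)), beq_iff_eq.1 h1, List.map_map, sum_range_list, ← hx]
    exact TAB.Sm2.sum_enum hE x
  have h6 : (R.rel.map fun r => (r.1.map fun p => Complex.normSq (χ p.1 x - (colV (T.ty x) r : ℝ))).sum).sum = 0 := by
    have h7 : (R.rel.map fun r => (r.1.map fun p => Complex.normSq (χ p.1 x - (colV (T.ty x) r : ℝ))).sum) =
        R.rel.map fun r => (r.1.map fun p => Complex.normSq (χ p.1 x)).sum -
          ((r.1.length * (colV (T.ty x) r * colV (T.ty x) r) : ℤ) : ℝ) := List.map_congr_left fun r hr => by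
      rw [sum_normSq_sub (fun j => χ j x) _ _ (fun p hp => (mem_part h1 hr hp).2), hR r hr x, h2 r hr]
      simp
      ring
    have h8 : ((R.rel.map fun r => (r.1.length * (colV (T.ty x) r * colV (T.ty x) r) : ℤ)).sum : ℝ) = c := by
      rw [h3, Int.cast_natCast]
    rw [Int.cast_list_sum, List.map_map] at h8
    rw [h7, sum_sub_list, h5]
    exact sub_eq_zero.2 h8.symm
  intro r hr
  refine ⟨(nth_eq _ _).trans (h2 r hr), fun p hp => ?_⟩
  have h8 := sum_nonneg_eq _ (fun r : List (ℕ × ℤ) × List ℤ => List.sum_nonneg fun y hy => by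
    obtain ⟨p, -, rfl⟩ := List.mem_map.1 hy
    exact Complex.normSq_nonneg _) _ h6 r hr
  have h9 := sum_nonneg_eq _ (fun p : ℕ × ℤ => Complex.normSq_nonneg _) _ h8 _ hp
  rw [Complex.normSq_eq_zero, sub_eq_zero] at h9
  simpa using h9

/-- the formula of Burnside for the row `w` -/
def BRow [Fintype G] (T : TD G D) (x y : G) (w : List ℤ) : Prop :=
  ∑ a, nth w 0 * nth w (T.ty (a * x * a⁻¹ * y)) = Nat.card G * (nth w (T.ty x) * nth w (T.ty y))

theorem brow [Fintype G] (h : Tab T R) (h0 : T.ty 1 = 0) (h1 : part R = true) (hN : colB R 0 (Nat.card G) = true)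
    {x y : G} (hx : colB R (T.ty x) (Nat.card (centralizer ({x} : Set G))) = true)
    (hy : colB R (T.ty y) (Nat.card (centralizer ({y} : Set G))) = true) : ∀ w ∈ R.rel.map Prod.snd, BRow T x y w := by
  obtain ⟨χ, hE, hR⟩ := h
  intro w hw
  obtain ⟨r, hr, rfl⟩ := List.mem_map.1 hw
  obtain ⟨a1, a2⟩ := col hE hR h1 (x := 1) (c := Nat.card G)
    (by rw [centralizer_eq_top_iff_subset.2 (Set.singleton_subset_iff.2 (one_mem _)), card_top]) (h0 ▸ hN) r hr
  obtain ⟨b1, b2⟩ := col hE hR h1 rfl hx r hr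
  obtain ⟨c1, c2⟩ := col hE hR h1 rfl hy r hr
  rw [h0] at a1 a2
  have h2 : ∀ l : List (ℕ × ℤ), (∀ p ∈ l, p ∈ r.1) →
      ∑ a, (colV 0 r : ℂ) * (l.map fun p => (p.2 : ℂ) * χ p.1 (a * x * a⁻¹ * y)).sum =
        l.length * (Nat.card G * (colV (T.ty x) r * colV (T.ty y) r)) := fun l hl => by
    induction l with
    | nil => simp
    | cons p l ih =>
      have h3 := hl p List.mem_cons_self
      obtain ⟨h4, h5⟩ := mem_part h1 hr h3
      have h6 := Characters.Central.sum_char_conj_mul (hE.irr _ h4) x y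
      rw [eq_div_iff (Characters.Central.irr_one_ne_zero (hE.irr _ h4)), a2 p h3, b2 p h3, c2 p h3] at h6
      simp only [List.map_cons, List.sum_cons, mul_add, Finset.sum_add_distrib, h5, Int.cast_one, one_mul,
        ih fun q hq => hl q (List.mem_cons_of_mem _ hq), List.length_cons, Nat.cast_succ]
      rw [← Finset.mul_sum]
      linear_combination h6
  have h3 := h2 r.1 fun _ hp => hp
  simp only [hR r hr, ← nth_eq] at h3
  have h4 : ∑ a, colV 0 r * nth r.2 (T.ty (a * x * a⁻¹ * y)) =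
      r.1.length * (Nat.card G * (colV (T.ty x) r * colV (T.ty y) r)) := by exact_mod_cast h3
  rw [BRow, a1, b1, c1]
  simp only [mul_assoc (r.1.length : ℤ)]
  rw [← Finset.mul_sum, h4]
  ring

theorem sum_accP [Fintype G] (x y : G) (z : List ℤ) : ∀ (W : List (List ℤ)) (V : List ℤ),
    (∀ w ∈ W, BRow T x y w) → V.length = D.n → ∑ a, nth (accP z W V) (T.ty (a * x * a⁻¹ * y)) =
      ∑ a, nth V (T.ty (a * x * a⁻¹ * y)) + Nat.card G * sumP (T.ty x) (T.ty y) z W := by
  induction z with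
  | nil => exact fun W V _ _ => (add_zero _).symm.trans (congrArg _ (mul_zero _).symm)
  | cons c z ih =>
    intro W V hW hV
    cases W with
    | nil => exact (add_zero _).symm.trans (congrArg _ (mul_zero _).symm)
    | cons w W =>
      have e1 : accP (c :: z) (w :: W) V = accP z W (axz (c * nth w 0) V w) :=
        (frcZ_eq (c * nth w 0) fun p => frcLZ (axz p V w) fun V' => accP z W V').trans (frcLZ_eq _ _)
      have e2 : sumP (T.ty x) (T.ty y) (c :: z) (w :: W) =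
          c * (nth w (T.ty x) * nth w (T.ty y)) + sumP (T.ty x) (T.ty y) z W := frcZ_eq _ _
      rw [e1, e2, ih W _ (fun v hv => hW v (List.mem_cons_of_mem _ hv)) ((length_axz _ _ _).trans hV),
        Finset.sum_congr rfl fun a _ => nth_axz _ _ _ (hV ▸ T.lt _), Finset.sum_add_distrib]
      simp only [mul_assoc c]
      rw [← Finset.mul_sum, hW w List.mem_cons_self]
      ring

/-- the check of a certificate -/
noncomputable def okB (D : Dat) (R : Rows) (good : ℕ → Bool) (s c t d : ℕ) (z : List ℤ) : Bool :=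
  part R && colB R 0 D.N && colB R s c && colB R t d && okProd D (R.rel.map Prod.snd) good s t z

/-- **products of conjugates** -/
theorem exists_prod [Finite G] (h : Tab T R) (hN : Nat.card G = D.N) (h0 : T.ty 1 = 0) {good : ℕ → Bool}
    {s c t d : ℕ} {z : List ℤ} (hz : okB D R good s c t d z = true) {x y : G} (hx : T.ty x = s) (hy : T.ty y = t)
    (hc : Nat.card (centralizer ({x} : Set G)) = c) (hd : Nat.card (centralizer ({y} : Set G)) = d) :
    ∃ a, good (T.ty (a * x * a⁻¹ * y)) = true := by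
  have := Fintype.ofFinite G
  subst hx hy hc hd
  simp only [okB, Bool.and_eq_true] at hz
  obtain ⟨⟨⟨⟨h1, h2⟩, h3⟩, h4⟩, h5⟩ := hz
  have hW := brow h h0 h1 (hN ▸ h2) h3 h4
  rw [okProd, frcLZ_eq, Bool.and_eq_true, decide_eq_true_eq] at h5
  by_contra h6
  have h7 := sum_accP x y z _ _ hW (List.length_replicate (a := 0))
  have h8 : ∑ a, nth (accP z (R.rel.map Prod.snd) (List.replicate D.n 0)) (T.ty (a * x * a⁻¹ * y)) ≤ 0 :=
    Finset.sum_nonpos fun a _ => by
      have h5 := allL_spec h5.1 _ (List.mem_range.2 (T.lt (a * x * a⁻¹ * y)))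
      rw [Bool.or_eq_true, decide_eq_true_eq] at h5
      exact h5.resolve_left fun h7 => h6 ⟨a, h7⟩
  have h9 : ∑ a, nth (List.replicate D.n 0) (T.ty (a * x * a⁻¹ * y)) = 0 :=
    Finset.sum_eq_zero fun a _ => by rw [nth_eq, List.getD_replicate _ (T.lt _)]
  have h10 : (0 : ℤ) < Nat.card G := by exact_mod_cast Nat.card_pos
  have h11 := mul_pos h10 h5.2
  omega

/-! ### counting in a subgroup -/

/-- the row is a character: its sum over a subgroup is a multiple of the order -/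
def ChRow (T : TD G D) (w : List ℤ) : Prop :=
  ∀ (E : Subgroup G) [Fintype E], ∃ m : ℕ, ∑ e : E, nth w (T.ty e) = Nat.card E * m

theorem sum_char [Finite G] {ψ : G → ℂ} (h : IsCharacter G ψ) (S : Subgroup G) [Fintype S] :
    ∃ m : ℕ, ∑ s : S, ψ s = Nat.card S * m := by
  obtain ⟨n, ρ, h1⟩ := Characters.Core.isCharacter_comp S.subtype h
  have h0 : (Nat.card S : ℂ) ≠ 0 := Nat.cast_ne_zero.2 Nat.card_pos.ne'
  have := invertibleOfNonzero h0
  have h2 := ρ.card_inv_mul_sum_char_eq_finrank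
  rw [h1, inv_mul_eq_iff_eq_mul₀ h0] at h2
  exact ⟨Module.finrank ℂ ρ.invariants, h2⟩

theorem chRow [Finite G] (h : Tab T R) {r : List (ℕ × ℤ) × List ℤ} (hr : r ∈ R.rel)
    (hc : ∀ p ∈ r.1, p.1 < R.n ∧ p.2 = 1) : ChRow T r.2 := by
  obtain ⟨χ, hE, hR⟩ := h
  intro S _
  have h1 : ∀ c : List (ℕ × ℤ), (∀ p ∈ c, p.1 < R.n ∧ p.2 = 1) →
      ∃ m : ℕ, ∑ s : S, (c.map fun p => (p.2 : ℂ) * χ p.1 s).sum = Nat.card S * m := by
    intro c hc
    induction c with
    | nil => exact ⟨0, by simp⟩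
    | cons p c ih =>
      obtain ⟨m, hm⟩ := ih fun q hq => hc q (List.mem_cons_of_mem _ hq)
      obtain ⟨h2, h3⟩ := hc p List.mem_cons_self
      obtain ⟨k, hk⟩ := sum_char (Characters.Core.isIrr_isCharacter (hE.irr _ h2)) S
      refine ⟨k + m, ?_⟩
      simp only [List.map_cons, List.sum_cons, Finset.sum_add_distrib, hm, hk, h3, Int.cast_one, one_mul]
      push_cast
      ring
  obtain ⟨m, hm⟩ := h1 r.1 hc
  simp only [hR r hr, ← nth_eq] at hm
  exact ⟨m, by exact_mod_cast hm⟩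

theorem chRow_part [Finite G] (h : Tab T R) (h1 : part R = true) : ∀ w ∈ R.rel.map Prod.snd, ChRow T w := by
  intro w hw
  obtain ⟨r, hr, rfl⟩ := List.mem_map.1 hw
  exact chRow h hr fun p hp => mem_part h1 hr hp

/-- **the elements of a subgroup have two types** -/
theorem count [Finite G] (h0 : T.ty 1 = 0) (E : Subgroup G) {u v : ℕ} (hE : ∀ e ∈ E, e ≠ 1 → T.ty e = u ∨ T.ty e = v) :
    ∃ a b : ℕ, 1 + a + b = Nat.card E ∧ ((∀ e ∈ E, T.ty e ≠ u) → a = 0) ∧
      ∀ w, ChRow T w → ∃ m : ℕ, nth w 0 + a * nth w u + b * nth w v = Nat.card E * m := by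
  classical
  have := Fintype.ofFinite E
  let s : Finset E := Finset.univ.erase 1
  have key : ∀ f : ℕ → ℤ, ∑ e : E, f (T.ty e) = f 0 + (s.filter fun e : E => T.ty e = u).card * f u +
      (s.filter fun e : E => ¬ T.ty e = u).card * f v := fun f => by
    rw [← Finset.add_sum_erase _ _ (Finset.mem_univ (1 : E)), OneMemClass.coe_one, h0, add_assoc,
      ← Finset.sum_filter_add_sum_filter_not _ fun e : E => T.ty e = u,
      Finset.sum_congr rfl (g := fun _ => f u) fun e he => by rw [(Finset.mem_filter.1 he).2],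
      Finset.sum_congr (s₁ := Finset.filter (fun e : E => ¬ T.ty e = u) _) rfl (g := fun _ => f v) fun e he => by
        obtain ⟨h1, h2⟩ := Finset.mem_filter.1 he
        rw [(hE e e.2 fun h3 => (Finset.mem_erase.1 h1).1 (Subtype.ext h3)).resolve_left h2],
      Finset.sum_const, Finset.sum_const, nsmul_eq_mul, nsmul_eq_mul]
  refine ⟨(s.filter fun e : E => T.ty e = u).card, (s.filter fun e : E => ¬ T.ty e = u).card, ?_, fun h => ?_,
    fun w hw => ?_⟩
  · have h1 := key fun _ => 1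
    rw [Finset.sum_const, Finset.card_univ, ← Nat.card_eq_fintype_card] at h1
    simp only [nsmul_eq_mul, mul_one] at h1
    exact_mod_cast h1.symm
  · exact Finset.card_eq_zero.2 (Finset.filter_eq_empty_iff.2 fun e _ => h e e.2)
  · obtain ⟨m, hm⟩ := hw E
    exact ⟨m, (key (nth w)).symm.trans hm⟩

end Cfsg.Agent.TwoF.SpD.Blk
end

-- part: TwoF/SpD/Tool2
section
/-!
# TwoF SP-D: more lower bounds, for groups with a character table (helper55)
-/

set_option autoImplicit false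
set_option maxHeartbeats 400000
set_option linter.unusedSectionVars false

namespace Cfsg.Agent.TwoF.SpD

open Cfsg Subgroup Module Cfsg.Agent.TwoF.Gen Cfsg.Agent.TAB.Eng Cfsg.Agent.TwoF.SpO

section

variable {k : Type*} [Field k] {Y : Type*} [Group Y] [Finite Y] {V : Type*} [AddCommGroup V] [Module k V]
  [FiniteDimensional k V] {ρ : Representation k Y V}

/-- a real element of odd order -/
theorem even_cod {x g : Y} (ho : Odd (orderOf x)) (hk : (orderOf x : k) ≠ 0) (h : g * x * g⁻¹ = x⁻¹) :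
    Even (cod ρ (zpowers x)) := by
  classical
  have hR : (Nat.card (zpowers x) : AlgebraicClosure k) ≠ 0 := card_ne_zero_closure (by rwa [Nat.card_zpowers])
  have := finite_char (AlgebraicClosure k) (zpowers x)
  have := Fintype.ofFinite (zpowers x →* (AlgebraicClosure k)ˣ)
  have hg : g⁻¹ ∈ normalizer (zpowers x : Set Y) := inv_mem (mem_normalizer_fintype fun _ ⟨j, hj⟩ => by
    rw [← hj, ← conj_zpow, h]
    exact zpow_mem (inv_mem (mem_zpowers _)) j)
  have h1 : ∀ χ : zpowers x →* (AlgebraicClosure k)ˣ, tw g⁻¹ hg χ = χ⁻¹ := fun χ => char_zpowers_ext (by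
    rw [tw_apply_of_eq hg χ (s := ⟨x, mem_zpowers x⟩⁻¹) (by rw [inv_inv]; exact h.symm), map_inv, MonoidHom.inv_apply])
  rw [← cod_bc (AlgebraicClosure k), cod_eq_sum_mlt
    (by rintro _ ⟨i, rfl⟩ _ ⟨j, rfl⟩; exact (Commute.zpow_zpow_self x i j).eq) hR le_rfl, ← ZMod.natCast_eq_zero_iff_even,
    Nat.cast_sum]
  refine Finset.sum_involution (fun χ _ => χ⁻¹) (fun χ _ => ?_) (fun χ hχ _ e => ?_) (fun χ hχ => ?_)
    fun χ _ => inv_inv χ
  · rw [← h1, mlt_tw, CharTwo.add_self_eq_zero]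
  · refine (Finset.mem_filter.1 hχ).2 fun r _ => ?_
    have h2 : χ r ^ 2 = 1 := by
      rw [pow_two, mul_eq_one_iff_eq_inv]
      exact (DFunLike.congr_fun e r).symm
    have h3 : χ r ^ orderOf x = 1 := by rw [← map_pow, ← Nat.card_zpowers, pow_card_eq_one', map_one]
    rw [← orderOf_eq_one_iff]
    exact Nat.eq_one_of_dvd_coprimes ho.coprime_two_left (orderOf_dvd_of_pow_eq_one h2) (orderOf_dvd_of_pow_eq_one h3)
  · refine Finset.mem_filter.2 ⟨Finset.mem_univ _, fun e => (Finset.mem_filter.1 hχ).2 fun r hr => ?_⟩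
    exact inv_eq_one.1 (e r hr)

/-- an elementary abelian group of order `r ^ 2` whose non-trivial elements have the same codimension -/
theorem dvd_cod {r c : ℕ} (hr : r.Prime) (hk : (r : k) ≠ 0) {R : Subgroup Y} (h1 : Nat.card R = r ^ 2)
    (h2 : ∀ a ∈ R, a ^ r = 1) (h3 : ∀ a ∈ R, a ≠ 1 → cod ρ (zpowers a) = c) : r ∣ c := by
  classical
  have := Fact.mk hr
  have := Fintype.ofFinite R
  have h4 := IsPGroup.isMulCommutative_of_card_eq_prime_sq h1
  have h5 := sum_cod_elt (ρ := ρ) (R := R) (fun a ha b hb => congrArg Subtype.val (h4.1.1 ⟨a, ha⟩ ⟨b, hb⟩)) hr hk h2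
  rw [← Finset.add_sum_erase _ _ (Finset.mem_univ 1), Finset.sum_congr rfl (g := fun _ => c) fun (g : R) hg =>
    h3 g g.2 fun e => Finset.ne_of_mem_erase hg (Subtype.ext e), Finset.sum_const,
    Finset.card_erase_of_mem (Finset.mem_univ _), smul_eq_mul, Finset.card_univ, ← Nat.card_eq_fintype_card, h1,
    OneMemClass.coe_one, zpowers_one_eq_bot, cod_bot, zero_add, pow_two, mul_comm (r - 1), mul_assoc, mul_assoc] at h5
  refine Nat.Coprime.dvd_of_dvd_mul_left ?_ ⟨_, Nat.eq_of_mul_eq_mul_left hr.pos h5⟩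
  refine (hr.coprime_iff_not_dvd).2 fun e => hr.not_dvd_one ((Nat.dvd_add_right e).1 ?_)
  rw [Nat.sub_add_cancel (Nat.mul_pos hr.pos hr.pos)]
  exact dvd_mul_right r r

end

variable {p : ℕ} [hp : Fact p.Prime] {m n n' : ℕ} {S : Type} [Group S] {s t : S}

theorem eb_of_one (h : ∀ (U : Type) [AddCommGroup U] [Module (ZMod p) U] [Finite U] (σ : Representation (ZMod p) S U),
    Function.Injective σ → n ≤ cod σ (zpowers s)) : EB p 1 s n := by
  intro K _ _ π h1 _ h3 U _ _ _ σ h4 x h5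
  let e := MulEquiv.ofBijective π ⟨(MonoidHom.ker_eq_bot_iff π).1 (card_eq_one.1 (Nat.dvd_one.1 h3)), h1⟩
  have h6 := h U (σ.comp e.symm.toMonoidHom) (h4.comp e.symm.injective)
  rwa [cod_comp, MonoidHom.map_zpowers, ← h5, show e.symm.toMonoidHom (π x) = x from e.symm_apply_apply x] at h6

variable [Finite S]

/-- a power of a product of two conjugates -/
theorem EB.prod {a : S} {l : ℕ} (h : EB p m ((a * t * a⁻¹ * t) ^ l) n) (hn : 2 * n' ≤ n + 1) : EB p m t n' :=
  h.of_pow.mul (isConj_iff.2 ⟨a, rfl⟩) (IsConj.refl t) hn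

theorem eb_of_dvd {a : S} {r : ℕ} (hr : r ∣ orderOf (a * t * a⁻¹ * t)) (h : ∀ y : S, orderOf y = r → EB p m y n)
    (hn : 2 * n' ≤ n + 1) : EB p m t n' :=
  (h _ (orderOf_pow_orderOf_div (orderOf_pos _).ne' hr)).prod hn

theorem EB.exists_frob {r q e : ℕ} [Fact q.Prime] (h : EB p m s n) (hr : r.Prime) (hrp : r ≠ p) (hrm : r.Coprime m)
    (hs : orderOf s = r) (hm : m ∣ q ^ e) (h1 : q ∣ Nat.card (normalizer (zpowers s : Set S)))
    (h2 : ¬ q ∣ Nat.card (centralizer ({s} : Set S))) (hn : q * n' < (q - 1) * n + q) :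
    ∃ t : S, orderOf t = q ∧ EB p m t n' := by
  obtain ⟨b, hb⟩ := exists_prime_orderOf_dvd_card' q h1
  rw [← orderOf_coe] at hb
  obtain ⟨i, hi⟩ := mem_powers_iff_mem_zpowers.2 ((mem_normalizer_iff.1 b.2 _).1 (mem_zpowers _))
  exact ⟨b, hb, h.frob hr hrp hrm hs hm (hb ▸ pow_orderOf_eq_one _) hi.symm
    (fun e => h2 (hb ▸ (centralizer {s}).orderOf_dvd_natCard (mem_centralizer_singleton_iff.2 e))) hn⟩

variable {D : Dat} {T : TD S D}

theorem EB.ty (h : EB p m s n) (hr : TAB.ON.Rat T) (e : T.ty t = T.ty s) : EB p m t n := by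
  obtain ⟨l, hl⟩ := hr t s e
  exact (h.conj hl).of_pow

theorem cod_ty {k : Type*} [Field k] {V : Type*} [AddCommGroup V] [Module k V] [FiniteDimensional k V]
    {ρ : Representation k S V} (hr : TAB.ON.Rat T) (e : T.ty t = T.ty s) : cod ρ (zpowers t) = cod ρ (zpowers s) := by
  have key : ∀ {t s : S}, T.ty t = T.ty s → cod ρ (zpowers s) ≤ cod ρ (zpowers t) := fun {t s} e => by
    obtain ⟨l, hl⟩ := hr t s e
    obtain ⟨g, rfl⟩ := isConj_iff.1 hl
    rw [cod_zpowers_conj]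
    exact cod_mono (zpowers_le.2 (pow_mem (mem_zpowers t) l))
  exact le_antisymm (key e.symm) (key e)

/-- the types of the elements of order `q` -/
theorem ty_mem {q : ℕ} {L : List ℕ} (h : ∀ i < D.n, D.ord i = q → i ∈ L) (ht : orderOf t = q) : T.ty t ∈ L :=
  h _ (T.lt t) ((T.ord t).symm.trans ht)

/-- a subgroup whose non-trivial elements have the same type -/
theorem pure_dvd {w : List ℤ} (hw : IrrRow T w) (h1 : T.ty 1 = 0) {E : Subgroup S} {i : ℕ}
    (h : ∀ a ∈ E, a ≠ 1 → T.ty a = i) : (Nat.card E : ℤ) ∣ nth w 0 - nth w i := by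
  classical
  obtain ⟨χ, h2, h3⟩ := hw
  have := Fintype.ofFinite E
  have h4 := H853.ThC.isIntegral_avg_char (Characters.Core.isIrr_isCharacter h2) E 1 fun a _ => Commute.one_right a
  rw [← Finset.add_sum_erase _ _ (Finset.mem_univ 1), Finset.sum_congr rfl (g := fun _ => (nth w i : ℂ)) fun (g : E) hg => by
    rw [mul_one, h3, h g g.2 fun e => Finset.ne_of_mem_erase hg (Subtype.ext e)], Finset.sum_const,
    Finset.card_erase_of_mem (Finset.mem_univ _), Finset.card_univ, ← Nat.card_eq_fintype_card, OneMemClass.coe_one,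
    mul_one, h3, h1, nsmul_eq_mul, Nat.cast_pred Nat.card_pos] at h4
  obtain ⟨l, hl⟩ := Characters.GaloisBasic.exists_int_of_isIntegral h4
    ⟨(Nat.card E : ℚ)⁻¹ * (nth w 0 + (Nat.card E - 1) * nth w i), by push_cast; rfl⟩
  rw [inv_mul_eq_iff_eq_mul₀ (Nat.cast_ne_zero.2 Nat.card_pos.ne')] at hl
  refine ⟨l - nth w i, ?_⟩
  have h5 : ((nth w 0 - nth w i : ℤ) : ℂ) = (Nat.card E * (l - nth w i) : ℤ) := by
    push_cast
    linear_combination hl
  exact_mod_cast h5

end Cfsg.Agent.TwoF.SpD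
end

private theorem dce_0fe6a0c70401 : _root_.True := by
  try have : _root_.True := by simp only [_root_.Cfsg.Agent.TwoF.SpD.Blk.BRow.eq_1]
  try have : _root_.True := by simp only [_root_.Cfsg.Agent.TwoF.SpD.Blk.colB.eq_1]
  try have : _root_.True := by simp only [_root_.Cfsg.Agent.TwoF.SpD.Blk.okB.eq_1]
  exact _root_.True.intro
end

-- part: TwoF/XE/G23B
section
prune_inst 0x4c01066654c221000001c000232003fe7f7000102006b0001f14409400cceff41a0030f21f8f03a1a89f826e4607fc048131001f9423800002a008600411d01a084ab60e2b23cbc04340007c0f887100000000000000000000000000000041004000000000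
set_option linter.all false
open scoped Cfsg.Agent.FastGrp

/-!
# TwoF / XE : words for `G₂(3)` (helper98)

`b k`, `k < 8` : the elementary abelian subgroup `B` of the Sylow 2-subgroup `PS 5` that is centralised by `γ₁`.
-/

set_option autoImplicit false
set_option Elab.async false
set_option maxRecDepth 100000

namespace Cfsg.Agent.TwoF.XE.G23

open Subgroup Cfsg.Agent.GTwoThree.Model Cfsg.Agent.H96.Rad2.G23
open Cfsg.Agent.OddHalf.Small.G23Data Cfsg.Agent.OddHalf.Small.G23Check Cfsg.Agent.OddHalf.Small.G23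

attribute [local irreducible] Cfsg.Agent.GTwoThree.Model.ev Cfsg.Agent.GTwoThree.Model.y

/-- the elements of `B` -/
def bw (k : ℕ) : List ℕ :=
  [[], [4, 18, 4, 18], [4, 11, 13, 18], [4, 12, 10, 18], [5, 10, 12, 19], [5, 13, 11, 19], [0, 9, 14, 9, 23, 0],
    [4, 10, 13, 10, 19, 4]].getD k []

/-- the position of an element of `B` -/
def ix (i : ℕ) : ℕ := [0, 5, 19, 23, 24, 25, 26, 7].idxOf i

/-- elements of order three of `N(B)` that centralise `b i` -/
def nw (i : ℕ) : List ℕ :=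
  [[], [4, 11], [0, 3, 17, 4, 15, 20], [0, 2, 15, 4, 16, 23], [0, 2, 16, 5, 15, 21], [0, 3, 15, 5, 17, 23],
    [0, 2, 20, 8, 7, 18, 23], [0, 2, 15, 18, 2, 9, 18]].getD i []

/-- their action on `B` -/
def pm (i j : ℕ) : ℕ :=
  ([[], [0, 1, 6, 7, 2, 3, 4, 5], [0, 4, 2, 6, 5, 1, 7, 3], [0, 5, 6, 3, 1, 4, 7, 2], [0, 2, 3, 1, 4, 6, 7, 5],
    [0, 3, 1, 2, 6, 5, 7, 4], [0, 4, 5, 1, 3, 7, 6, 2], [0, 5, 3, 6, 1, 4, 2, 7]].getD i []).getD j j

/-- generators -/
def gw (k : ℕ) : List ℕ :=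
  if k < 8 then bw k else if k < 16 then [12] ++ (bw (k - 8) ++ iw [12])
  else if k < 24 then [0, 23, 0] ++ (bw (k - 16) ++ iw [0, 23, 0])
  else if k = 24 then g1 [12] ++ iw [12] else g1 [0, 23, 0] ++ iw [0, 23, 0]

private theorem eqc_fast : eqc = fun w w' => Cfsg.Agent.Lib.PackAll.aEq Cfsg.Agent.GTwoThree.ModelData.C3 (w.map cd) (w'.map cd) 0 14 := by
  delta eqc
  rw [Cfsg.Agent.Lib.PackAll.checkEq_fun (by decide +kernel)]

theorem o_check : ∀ i < 64, (nec (ex (PW.getD i []) ++ g1 (ex (PW.getD i []))) [] ||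
    (decide (ix i < 8) && eqc (ex (PW.getD i [])) (bw (ix i)))) = true := by (rewrite [eqc_fast]; decide +kernel)

theorem m_check : ∀ i < 8, ∀ j < 8, eqc (bw i ++ bw j) (bw (i ^^^ j)) = true := by (rewrite [eqc_fast]; decide +kernel)

theorem b_check : ∀ i < 8, i ≠ 0 → nec (bw i) [] = true := by decide +kernel

theorem n_check : ∀ i < 8, ∀ j < 8, eqc (nw i ++ bw j) (bw (pm i j) ++ nw i) = true := by (rewrite [eqc_fast]; decide +kernel)

theorem u_check : ∀ i < 8, (eqc (uW (bw i) [13, 11] ++ uW (bw i) [13, 11]) [] && nec (uW (bw i) [13, 11]) []) = true := by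
  (rewrite [eqc_fast]; decide +kernel)

theorem c_check : eqc ([12] ++ bw 1) (bw 1 ++ [12]) = true ∧ eqc ([0, 23, 0] ++ bw 6) (bw 6 ++ [0, 23, 0]) = true := by
  (rewrite [eqc_fast]; decide +kernel)

theorem g_check : eqc wa ([7, 25, 24, 14, 25, 10, 24, 25, 15, 24, 25, 24, 25].flatMap gw) = true ∧
    eqc wb ([4, 12].flatMap gw) = true ∧
    eqc wc ([17, 25, 24, 21, 25, 24, 25, 24, 18, 24, 18, 24, 25].flatMap gw) = true ∧
    eqc wd ([2, 13].flatMap gw) = true ∧ eqc wt ([20, 25, 13].flatMap gw) = true := by (rewrite [eqc_fast]; decide +kernel)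

theorem bw_let : ∀ i < 8, ∀ k ∈ bw i, k < 24 := by decide +kernel

theorem pm_lt : ∀ i < 8, pm i i = i ∧ ∀ j < 8, pm i j < 8 := by decide +kernel

set_option synthInstance.maxSize 2000 in
theorem pm_check : ∀ i < 8, ∀ j < 8, ∀ k < 8,
    k ∈ [i ^^^ i, i, j, i ^^^ j, pm i j, i ^^^ pm i j, j ^^^ pm i j, (i ^^^ j) ^^^ pm i j] ∨ i = 0 ∨ j = 0 ∨ i = j := by
  decide +kernel

/-- the elements of `B` -/
noncomputable def b (k : ℕ) : ↥Gp := ev y (bw k)

theorem b_zero : b 0 = 1 := ev_nil y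

theorem b_mul {i j : ℕ} (hi : i < 8) (hj : j < 8) : b i * b j = b (i ^^^ j) :=
  (ev_append y _ _).symm.trans (eq_of_eqc (m_check i hi j hj))

theorem b_sq {i : ℕ} (hi : i < 8) : b i ^ 2 = 1 := by rw [pow_two, b_mul hi hi, Nat.xor_self, b_zero]

theorem b_ne {i : ℕ} (hi : i < 8) (h : i ≠ 0) : b i ≠ 1 := by
  rw [← ev_nil y]
  exact ne_of_nec (b_check i hi h)

theorem exists_b {s : ↥Gp} (hs : s ∈ PS 5) (h : s * γ1 s = 1) : ∃ k < 8, s = b k := by
  obtain ⟨i, hi, rfl⟩ := exists_P hs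
  have hc := o_check i hi
  rw [Bool.or_eq_true, Bool.and_eq_true, decide_eq_true_eq] at hc
  rcases hc with hc | hc
  · refine absurd ?_ (ne_of_nec hc)
    rw [ev_append, ← γ1_ev, ev_nil]
    exact h
  · exact ⟨_, hc.1, eq_of_eqc hc.2⟩

theorem conj_of {u v w : List ℕ} (h : eqc (u ++ v) (w ++ u) = true) : ev y u * ev y v * (ev y u)⁻¹ = ev y w := by
  have := eq_of_eqc h
  rw [ev_append, ev_append] at this
  rw [this, mul_inv_cancel_right]

theorem nw_conj {i j : ℕ} (hi : i < 8) (hj : j < 8) : ev y (nw i) * b j * (ev y (nw i))⁻¹ = b (pm i j) :=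
  conj_of (n_check i hi j hj)

theorem exists_comm {i : ℕ} (hi : i < 8) : ∃ g : ↥Gp, (MulAut.conj (b i) * γ1) g * g⁻¹ ≠ 1 ∧
    ((MulAut.conj (b i) * γ1) g * g⁻¹) ^ 2 = 1 := by
  have h1 : (MulAut.conj (b i) * γ1) (ev y [13, 11]) * (ev y [13, 11])⁻¹ = ev y (uW (bw i) [13, 11]) := by
    rw [MulAut.mul_apply, MulAut.conj_apply, γ1_ev, ← ev_iw (w := [13, 11]) (by decide), uW, ev_append, ev_append,
      ev_append, ev_iw (bw_let i hi), b]
    simp only [mul_assoc]
  have hc := u_check i hi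
  rw [Bool.and_eq_true] at hc
  refine ⟨ev y [13, 11], ?_, ?_⟩
  · rw [h1, ← ev_nil y]
    exact ne_of_nec hc.2
  · rw [h1, pow_two, ← ev_append, ← ev_nil y]
    exact eq_of_eqc hc.1

theorem exists_gen : ∃ g g' : ↥Gp, g * b 1 * g⁻¹ = b 1 ∧ g' * b 6 * g'⁻¹ = b 6 ∧ ∀ M : Subgroup ↥Gp,
    (∀ k < 8, b k ∈ M) → (∀ k < 8, g * b k * g⁻¹ ∈ M) → (∀ k < 8, g' * b k * g'⁻¹ ∈ M) → γ1 g * g⁻¹ ∈ M →
      γ1 g' * g'⁻¹ ∈ M → M = ⊤ := by
  refine ⟨ev y [12], ev y [0, 23, 0], conj_of c_check.1, conj_of c_check.2, fun M h1 h2 h3 h4 h5 => ?_⟩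
  have e1 := ev_iw (w := [12]) (by decide)
  have e2 := ev_iw (w := [0, 23, 0]) (by decide)
  have h6 : ∀ k, ev y (gw k) ∈ M := fun k => by
    unfold gw
    split_ifs with a1 a2 a3 a4
    · exact h1 k a1
    · rw [ev_append, ev_append, e1, ← mul_assoc]
      exact h2 _ (by omega)
    · rw [ev_append, ev_append, e2, ← mul_assoc]
      exact h3 _ (by omega)
    · rw [ev_append, e1, ← γ1_ev]
      exact h4
    · rw [ev_append, e2, ← γ1_ev]
      exact h5
  have h7 : ∀ {w : List ℕ} (l : List ℕ), eqc w (l.flatMap gw) = true → ev y w ∈ M := fun l h => by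
    rw [eq_of_eqc h]
    clear h
    induction l with
    | nil => exact ev_nil y ▸ one_mem M
    | cons k l ih =>
      rw [List.flatMap_cons, ev_append]
      exact mul_mem (h6 k) ih
  obtain ⟨a1, a2, a3, a4, a5⟩ := g_check
  exact eq_top (h7 _ a1) (h7 _ a2) (h7 _ a3) (h7 _ a4) (h7 _ a5)

end Cfsg.Agent.TwoF.XE.G23

private theorem dce_ed4916a787ed : _root_.True := by
  try have : _root_.True := by simp only [_root_.Cfsg.Agent.TwoF.XE.G23.b.eq_1]
  exact _root_.True.intro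
end

-- part: H379/TD/AllThree
section
set_option linter.all false
open scoped Cfsg.Agent.FastGrp

/-!
# All 3-elements of `³D₄(2)` have the property `Prop3`
-/

set_option autoImplicit false

namespace Cfsg.Agent.H379.TD

open Cfsg.Agent.TypeD4Two Module

theorem fix_pow {w : M} {v : V} (h : ap w v = v) (n : ℕ) : ap (w ^ n) v = v := by
  rw [ap_pow]
  exact pow_fix h n

end Cfsg.Agent.H379.TD
end

-- part: TwoF/SpC/J3/Cert
section
set_option linter.all false
open scoped Cfsg.Agent.FastGrp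

/-!
# TwoF SP-C : products in the third Janko group (helper55)

`two_cert` : an involution `z` with `x = z z^g` of order 17 and `x x^h` of order 19.  `three_cert` : every
3-subgroup of exponent 3 and order at least 27 has order 27 and contains an element `e` with `e e^g` of order 19.
-/

set_option autoImplicit false
set_option maxHeartbeats 400000

namespace Cfsg.Agent.TwoF.SpC.J3

open Subgroup Cfsg Cfsg.Spor
open Cfsg.Agent.J3.Core Cfsg.Agent.J3.Tab Cfsg.Agent.J3.Elts Cfsg.Agent.J3.Mono Cfsg.Agent.KFacts.J3W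
open Cfsg.Agent.H792.SpJ3 (pr)
open Cfsg.Agent.H547.OB.J3 (tb)
open Cfsg.Agent.H296.JT (WW card_WW)
open Cfsg.Agent.SP.NJ3 Cfsg.Agent.SP.NJ3.Dat

/-- the conjugating word -/
def wX : List ℕ := [10, 27]

/-- its table -/
def tX : List ℕ := [4, 8, 32, 48, 2, 3, 512, 768, 2048, 3072, 192, 64, 32768, 49152, 65536, 131072, 12288, 4096]

/-- the table of the inverse -/
def iX : List ℕ := [48, 16, 1, 2, 12, 4, 2048, 3072, 192, 64, 768, 256, 131072, 196608, 12288, 4096, 16384, 32768]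

/-- the conjugate of the element of order 17 -/
def yX : List ℕ := [247308, 84740, 249120, 83504, 85249, 165378, 169022, 256023, 94505, 168510, 245952, 81984, 68981,
  132762, 19829, 34458, 11008, 15616]

theorem okT_X : okT wX tX iX = true := by decide +kernel

theorem okY_X : okY tX iX (compT (tb 1) (get [] yV 1)) yX = true := by decide +kernel

theorem fin_X : pw1 (compT (compT (tb 1) (get [] yV 1)) yX) 19 = true ∧
    pw1 (compT (compT (tb 1) (get [] yV 1)) yX) 1 = false := by decide +kernel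

variable {F : Type} [Field F] [Fintype F] {ω : F} (hF : Fintype.card F = 4) (H : Good ω)
include hF H

theorem two_cert : ∃ z g h : J3 F ω, orderOf z = 2 ∧ (z * (g * z * g⁻¹)) ^ 17 = 1 ∧
    orderOf (z * (g * z * g⁻¹) * (h * (z * (g * z * g⁻¹)) * h⁻¹)) = 19 := by
  obtain ⟨G⟩ := exists_gens hF H
  have hg := rep_t H G okT_V
  have hy := rep_y hg (el_spec H G (i := 1) (by norm_num)).1 (okY_V 1)
  have hp := (el_spec H G (i := 1) (by norm_num)).1.mul hy
  have h17 := (pw_iff hF H hp 17).2 fin_V.1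
  have hq := hp.mul (rep_y (rep_t H G okT_X) hp okY_X)
  have h19 := ord_prime (by norm_num) ((pw_iff hF H hq 19).2 fin_X.1) (pw_not hF H hq fin_X.2)
  rw [el1] at h17 h19
  simp only [map_mul, map_inv] at h17 h19
  exact ⟨pr (zz G), pr (ev G wV), pr (ev G wX), ord_z H G hF, h17, h19⟩

theorem three_cert {E : Subgroup (J3 F ω)} (hE : ∀ x ∈ E, x ^ 3 = 1) (hc : 27 ≤ Nat.card E) :
    Nat.card E = 27 ∧ ∃ e ∈ E, ∃ g : J3 F ω, orderOf (e * (g * e * g⁻¹)) = 19 := by
  obtain ⟨G⟩ := exists_gens hF H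
  have hfin := H296.JT.fin_j3 (iso hF H)
  have hg := rep_t H G okT_A
  have hx : RepG ω (bT 27) G.e := rep_bl G H (k := 27) (by norm_num) (by norm_num)
  have hp := hx.mul (rep_y hg hx okY_A.1)
  have h19 := ord_prime (by norm_num) ((pw_iff hF H hp 19).2 fin_A.1) (pw_not hF H hp fin_A.2.1)
  rw [map_mul, map_mul, map_mul, map_inv] at h19
  obtain ⟨c, hc'⟩ := into_W hF H G (P := E) fun x => ⟨1, Subtype.ext (by simpa using hE x x.2)⟩
  have hle : E.comap (MulAut.conj c).toMonoidHom ≤ WW H G := fun x hx => hc' x hx (by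
    have h1 := hE _ hx
    apply (MulAut.conj c).injective
    rw [map_pow, map_one]
    exact h1)
  have hcard : Nat.card (E.comap (MulAut.conj c).toMonoidHom) = Nat.card E := by
    rw [comap_equiv_eq_map_symm']
    exact Nat.card_congr (E.equivMapOfInjective _ (MulAut.conj c).symm.injective).toEquiv.symm
  have heq : E.comap (MulAut.conj c).toMonoidHom = WW H G :=
    eq_of_le_of_card_ge hle (by rw [hcard, card_WW hF H G]; exact hc)
  refine ⟨by rw [← hcard, heq, card_WW hF H G], c * pr G.e * c⁻¹, ?_, c * pr (ev G wA) * c⁻¹, ?_⟩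
  · have h1 : (pr G.e : J3 F ω) ∈ WW H G := ⟨1, 0, by rw [H792.SpJ3.a_zero H G, pow_one, mul_one]⟩
    rw [← heq] at h1
    exact h1
  · rw [← h19]
    refine Eq.trans ?_ (orderOf_injective (MulAut.conj c).toMonoidHom (MulAut.conj c).injective _)
    congr 1
    simp only [MulEquiv.toMonoidHom_eq_coe, MonoidHom.coe_coe, MulAut.conj_apply]
    group

end Cfsg.Agent.TwoF.SpC.J3
end

-- part: TwoF/DC/TC/Sz
section
prune_inst 0x4001044614c00100000040012000023856500010000200001c1840942080af7400002090048a0180a0828228000050048131000b0420000000a000400000501208080400032100c04240007803004000000000000000000000000000000041004000000000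
set_option linter.all false
open scoped Cfsg.Agent.FastGrp

/-!
# TwoF, the Suzuki groups in characteristic two (helper68)
-/

set_option autoImplicit false

namespace Cfsg.Agent.TwoF.DC.TC

open Cfsg Cfsg.Agent.TwoF.Gen Subgroup

namespace Sz

section

variable {Y : Type*} [Group Y] [Finite Y]

/-- a group with a non-degenerate alternating form over the field with two elements has order a power of four -/
theorem card_of_alt (B : Y → Y → ZMod 2) (n : ℕ) : ∀ A : Subgroup Y, Nat.card A = n →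
    (∀ b ∈ A, AddOn A fun a => B a b) → (∀ a ∈ A, ∀ b ∈ A, B a b = B b a) → (∀ a ∈ A, B a a = 0) →
      (∀ a ∈ A, (∀ b ∈ A, B a b = 0) → a = 1) → ∃ k, n = 4 ^ k := by
  induction n using Nat.strong_induction_on with
  | _ n ih =>
    intro A hn h1 h2 h3 h4
    by_cases h0 : A = ⊥
    · exact ⟨0, by rw [← hn, h0, card_bot, pow_zero]⟩
    obtain ⟨⟨a, ha⟩, ha1⟩ := ne_bot_iff_exists_ne_one.1 h0
    obtain ⟨b, hb, hab⟩ : ∃ b ∈ A, B a b ≠ 0 := by
      by_contra h
      push Not at h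
      exact ha1 (Subtype.ext (h4 a ha h))
    have two : ∀ t : ZMod 2, t = 0 ∨ t = 1 := by decide
    have hab1 : B a b = 1 := (two _).resolve_left hab
    let f : A →* Multiplicative (ZMod 2 × ZMod 2) := MonoidHom.mk' (fun c => Multiplicative.ofAdd (B c a, B c b))
      fun c d => by
        rw [← ofAdd_add, Prod.mk_add_mk, ← h1 a ha c c.2 d d.2, ← h1 b hb c c.2 d d.2]
        rfl
    have hf : ∀ t : Multiplicative (ZMod 2 × ZMod 2), ∃ c ∈ A,
        (B c a, B c b) = t.toAdd ∧ ∀ d ∈ A, B d a = 0 → B d b = 0 → B c d = 0 := by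
      intro t
      have e1 := h1 a ha b hb a ha
      have e2 := h1 b hb b hb a ha
      beta_reduce at e1 e2
      rcases two t.toAdd.1 with u | u <;> rcases two t.toAdd.2 with v | v
      · exact ⟨1, one_mem _, Prod.ext ((h1 a ha).one.trans u.symm) ((h1 b hb).one.trans v.symm),
          fun d hd _ _ => (h1 d hd).one⟩
      · exact ⟨a, ha, Prod.ext ((h3 a ha).trans u.symm) (hab1.trans v.symm),
          fun d hd h5 _ => (h2 a ha d hd).trans h5⟩
      · exact ⟨b, hb, Prod.ext (((h2 b hb a ha).trans hab1).trans u.symm) ((h3 b hb).trans v.symm),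
          fun d hd _ h5 => (h2 b hb d hd).trans h5⟩
      · refine ⟨b * a, mul_mem hb ha, Prod.ext ?_ ?_, fun d hd h5 h6 => ?_⟩
        · show B (b * a) a = _
          rw [e1, h3 a ha, h2 b hb a ha, hab1, add_zero, u]
        · show B (b * a) b = _
          rw [e2, h3 b hb, hab1, zero_add, v]
        · have e3 := h1 d hd b hb a ha
          beta_reduce at e3
          rw [e3, h2 b hb d hd, h2 a ha d hd, h5, h6, add_zero]
    have hs : f.range = ⊤ := eq_top_iff.2 fun t _ => by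
      obtain ⟨c, hc, h5, -⟩ := hf t
      exact ⟨⟨c, hc⟩, congrArg Multiplicative.ofAdd h5⟩
    have hle : f.ker.map A.subtype ≤ A := map_subtype_le _
    have hm : ∀ c ∈ A, c ∈ f.ker.map A.subtype ↔ B c a = 0 ∧ B c b = 0 := fun c hc =>
      ⟨fun ⟨d, hd, e⟩ => e ▸ Prod.mk.inj (congrArg Multiplicative.toAdd (show f d = 1 from hd)),
        fun h => ⟨⟨c, hc⟩, congrArg Multiplicative.ofAdd (Prod.ext h.1 h.2), rfl⟩⟩
    have hcard : n = 4 * Nat.card (f.ker.map A.subtype) := by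
      rw [← hn, card_map_of_injective A.subtype_injective, ← card_mul_index f.ker, index_ker, hs, card_top, mul_comm]
      simp only [_root_.Nat.card_eq_fintype_card, _root_.IsKleinFour.card_four', _root_.MonoidHom.mem_ker]
    obtain ⟨k, hk⟩ := ih _ (by have := Nat.card_pos (α := f.ker.map A.subtype); omega) _ rfl
      (fun b hb c hc d hd => h1 b (hle hb) c (hle hc) d (hle hd)) (fun a ha b hb => h2 a (hle ha) b (hle hb))
      (fun a ha => h3 a (hle ha)) fun c hc h5 => h4 c (hle hc) fun d hd => by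
        obtain ⟨e, he, h6, h7⟩ := hf (f ⟨d, hd⟩)
        obtain ⟨h8, h9⟩ := Prod.mk.inj h6
        have e1 := h1 a ha d hd e he
        have e2 := h1 b hb d hd e he
        have e3 := h1 c (hle hc) d hd e he
        beta_reduce at e1 e2 e3
        have h10 := h5 (d * e) ((hm _ (mul_mem hd he)).2 ⟨by rw [e1, h8, CharTwo.add_self_eq_zero],
          by rw [e2, h9, CharTwo.add_self_eq_zero]⟩)
        rw [h2 c (hle hc) _ (mul_mem hd he), e3, h7 c (hle hc) ((hm c (hle hc)).1 hc).1 ((hm c (hle hc)).1 hc).2,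
          add_zero] at h10
        exact (h2 c (hle hc) d hd).trans h10
    exact ⟨k + 1, by rw [hcard, hk, pow_succ']⟩

/-- an `s`-group which acts without fixed points -/
theorem dvd_of_fpf {E X : Subgroup Y} {s : ℕ} [Fact s.Prime] (hX : IsPGroup s X)
    (hi : ∀ h ∈ X, ∀ e ∈ E, h * e * h⁻¹ ∈ E) (hf : ∀ e ∈ E, (∀ h ∈ X, h * e * h⁻¹ = e) → e = 1) :
    s ∣ Nat.card E - 1 := by
  let _ : MulAction X E :=
    { smul := fun h e => ⟨h * e * h⁻¹, hi h h.2 e e.2⟩
      one_smul := fun e => Subtype.ext (by show ((1 : X) : Y) * e * ((1 : X) : Y)⁻¹ = e; simp)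
      mul_smul := fun g h e => Subtype.ext (by
        show ((g : Y) * h) * e * ((g : Y) * h)⁻¹ = g * (h * e * (h : Y)⁻¹) * (g : Y)⁻¹
        group) }
  have h1 := hX.card_modEq_card_fixedPoints E
  have h2 : Nat.card (MulAction.fixedPoints X E) = 1 := by
    rw [Nat.card_eq_one_iff_exists]
    refine ⟨⟨1, fun h => Subtype.ext (by show (h : Y) * 1 * (h : Y)⁻¹ = 1; simp)⟩, fun e => Subtype.ext (Subtype.ext ?_)⟩
    exact hf _ e.1.2 fun h hh => congrArg Subtype.val (e.2 ⟨h, hh⟩)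
  rw [h2] at h1
  exact (Nat.modEq_iff_dvd' Nat.card_pos).1 h1.symm

end

/-- what is used about the group -/
structure Dat (S : Type) [Group S] (f : ℕ) : Prop where
  odd : Odd f
  two : 2 ≤ f
  out : ¬ 2 ∣ Nat.card (Out S)
  ex : ∀ A : Subgroup S, IsElementaryAbelian 2 A → ∃ (W : Subgroup S) (x : S) (s : ℕ), A ≤ W ∧
    IsElementaryAbelian 2 W ∧ Nat.card W < 2 ^ (2 * f) ∧ s.Prime ∧ s ≠ 2 ∧ (∀ m, s ∣ 2 ^ m - 1 ↔ f ∣ m) ∧ x ^ s = 1 ∧
      x ∈ normalizer (W : Set S) ∧ ∀ w ∈ W, x * w = w * x → w = 1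

theorem Dat.row {S : Type} [Group S] {f : ℕ} (D : Dat S f) : Row 2 S := by
  refine ⟨row88_of_sit fun Y _ _ V _ _ _ K ρ π φ H A hA => ?_, row89_of_not_dvd D.out⟩
  have hK := H.toFrm.le_of_not_dvd (elemAb_isPGroup hA.1) D.out
  have hA0 : IsElementaryAbelian 2 ((A.subgroupOf K).map π) :=
    elemAb_map (elemAb_of (fun a ha b hb => Subtype.ext (elemAb_comm hA.1 ha hb))
      fun a ha => Subtype.ext (hA.1.2 a ha)) π
  obtain ⟨W, x, s, h1, h2, h3, hs, hs2, h4, h5, h6, h7⟩ := D.ex _ hA0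
  have := Fact.mk hs
  obtain ⟨Z, z1, -, -, z2, z3, z4, z5⟩ := H.exists_lift (elemAb_isPGroup h2)
  obtain ⟨B, b1, b2, b3, -⟩ := lattice two_pos (z5 h2) hA fun a ha =>
    (z3 ⟨a, hK ha⟩).2 ⟨h1 ⟨_, ha, rfl⟩, 1, Subtype.ext (by rw [pow_one]; exact hA.1.2 a ha)⟩
  obtain ⟨Q, q1, q2, -⟩ := H.toFrm.exists_lift (elemAb_isPGroup (elemAb_zpowers h5))
  have hN : Q.map K.subtype ≤ normalizer (B : Set Y) := by
    rintro _ ⟨y, hy, rfl⟩
    refine b3 (z4 _ fun w hw => ?_)
    rw [coe_subtype, H.toFrm.φ_coe]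
    exact (mem_normalizer_iff.1 (zpowers_le.2 h6 (q2.le ⟨y, hy, rfl⟩)) w).1 hw
  have hfp : ∀ e ∈ B, (∀ h ∈ Q.map K.subtype, h * e * h⁻¹ = e) → e = 1 := by
    intro e he h
    obtain ⟨y, hy, e1⟩ := q2.ge (mem_zpowers x)
    obtain ⟨e2, n, e3⟩ := (z3 ⟨e, z1 (b1 he)⟩).1 (b1 he)
    refine H.toStp.eq_one_of_mem_centralizer (n := n) (congrArg Subtype.val e3)
      (H.toFrm.π_eq_one_iff.1 (h7 _ e2 ?_))
    rw [← e1, ← map_mul, ← map_mul]
    exact congrArg π (Subtype.ext (mul_inv_eq_iff_eq_mul.1 (h y ⟨y, hy, rfl⟩)))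
  have hc : ∀ E ≤ B, (∀ h ∈ Q.map K.subtype, ∀ e ∈ E, h * e * h⁻¹ ∈ E) → E = ⊥ ∨ Nat.card E = 2 ^ f := by
    intro E hE hi
    obtain ⟨r, hr⟩ := ((elemAb_isPGroup b2.1).to_le hE).exists_card_eq
    have c1 := dvd_of_fpf (q1.map K.subtype) hi fun e he => hfp e (hE he)
    rw [hr, h4] at c1
    have c2 : r < 2 * f := by
      rw [← Nat.pow_lt_pow_iff_right (by norm_num : 1 < 2), ← hr]
      exact lt_of_le_of_lt (z2 ▸ card_le_of_le (hE.trans b1)) h3
    obtain ⟨c, rfl⟩ := c1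
    rcases c with _ | _ | c
    · exact Or.inl (card_eq_one.1 hr)
    · exact Or.inr (by rw [hr]; simp)
    · nlinarith only [c2]
  have hB := (hc B le_rfl fun h hh e he => (mem_normalizer_iff.1 (hN hh) e).1 he).resolve_left b2.2.1
  have hi : IrrOn B (Q.map K.subtype) := fun E hE hi =>
    (hc E hE hi).imp_right fun c => eq_of_le_of_card_ge hE (by rw [c, hB])
  refine ⟨B, b2, by_contra fun hn => ?_⟩
  have key := layers_of_order (k := ZMod 2) (n := f) b2.1 hN le_rfl (fun H' c1 _ _ => ⟨NoLin.mono (noLin_of_irr hN hi ?_) c1,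
    OneForm.mono (fun F F' c2 _ => ⟨1, 0, Or.inl one_ne_zero, fun a ha b hb => ?_⟩) c1⟩) hn ?_ (q1.map K.subtype)
    fun d d1 d2 d3 => ?_
  · have c1 := b2.2.2
    rw [hB, ← pow_mul, Nat.pow_le_pow_iff_right (by norm_num)] at c1
    omega
  · rw [Nat.card_zmod, hB]
    exact lt_of_lt_of_le (by norm_num) (Nat.pow_le_pow_right two_pos D.two)
  · rw [one_mul, zero_mul]
    rcases hi (kerOn B (fun (b : B) a => F a b) fun b => c2.add b b.2) (fun _ h => h.1) (fun h hh e he =>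
      ⟨(mem_normalizer_iff.1 (hN hh) e).1 he.1, fun b => by
        have c3 := c2.inv h hh e he.1 _ (conj_mem_of_normalizer' (hN hh) b.2)
        rw [show h * (h⁻¹ * b * h) * h⁻¹ = b by group] at c3
        exact c3.trans (he.2 ⟨_, conj_mem_of_normalizer' (hN hh) b.2⟩)⟩) with c3 | c3
    · obtain ⟨k, c4⟩ := card_of_alt F _ B hB c2.add c2.symm (c2.alt (by decide)) fun a ha c4 =>
        mem_bot.1 (c3.le ⟨ha, fun b => c4 b b.2⟩)
      rw [show 4 = 2 ^ 2 from rfl, ← pow_mul, Nat.pow_right_inj (by norm_num)] at c4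
      exact absurd D.odd (by rw [c4]; simp only [_root_.Nat.not_odd_iff_even, _root_.even_two, _root_.Even.mul_right])
    · exact (c3.ge ha).2 ⟨b, hb⟩
  · rw [Nat.card_zmod]
    exact fun e => hs2 ((Nat.prime_dvd_prime_iff_eq hs Nat.prime_two).1 e)
  · rw [Nat.card_zmod] at d3
    exact absurd (Nat.le_of_dvd d1 ((h4 d).1 ((Nat.modEq_iff_dvd' Nat.one_le_two_pow).1 d3.symm))) d2.not_ge

theorem dat {F : Type} [Field F] [Fintype F] {m : ℕ} (hm : 1 ≤ m) (hF : Fintype.card F = 2 ^ (2 * m + 1))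
    (hout : Nat.card (Out ↥(Cfsg.Sz F m)) = 2 * m + 1) : Dat ↥(Cfsg.Sz F m) (2 * m + 1) := by
  refine ⟨odd_two_mul_add_one m, by omega, by omega, fun A hA => ?_⟩
  have := S0325.result hm hF
  obtain ⟨P, hP⟩ := (elemAb_isPGroup hA).exists_le_sylow
  obtain ⟨a, ha⟩ := H452.FprSz.exists_eq_P hm hF P
  obtain ⟨a1, -, a3, a4⟩ := H452.FprSz.sz_rank hm hF
  obtain ⟨s, hs, s1, -, s2⟩ := Lib.Zsigmondy.exists_primitive (a := 2) (n := 2 * m + 1) le_rfl (by omega) (by omega)
    (by omega)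
  have := Fact.mk hs
  have hc : ∀ x ∈ (P : Subgroup ↥(Cfsg.Sz F m)), ∀ y ∈ (P : Subgroup ↥(Cfsg.Sz F m)), x ^ 2 = 1 → y ^ 2 = 1 →
      x * y = y * x := fun x hx y hy h1 h2 => by
    rw [pow_two] at h1 h2
    have h3 := H101.SzSub.sq_eq hm hF a (ha ▸ hx) (ha ▸ hy) (h1.trans h2.symm)
    rw [inv_eq_of_mul_eq_one_right h2] at h3
    rw [← inv_eq_of_mul_eq_one_right h3, mul_inv_rev, inv_eq_of_mul_eq_one_right h1, inv_eq_of_mul_eq_one_right h2]
  let W : Subgroup ↥(Cfsg.Sz F m) :=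
    { carrier := {x | x ∈ (P : Subgroup ↥(Cfsg.Sz F m)) ∧ x ^ 2 = 1}
      one_mem' := ⟨one_mem _, one_pow _⟩
      mul_mem' := fun {x y} hx hy => ⟨mul_mem hx.1 hy.1, by
        rw [Commute.mul_pow (hc x hx.1 y hy.1 hx.2 hy.2), hx.2, hy.2, one_mul]⟩
      inv_mem' := fun {x} hx => ⟨inv_mem hx.1, by rw [inv_pow, hx.2, inv_one]⟩ }
  have hW : W < P := lt_of_le_of_ne (fun _ h => h.1) fun h => by
    have h1 : Monoid.exponent P ∣ 2 := Monoid.exponent_dvd_of_forall_pow_eq_one fun g => Subtype.ext (h.ge g.2).2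
    rw [(S0330.result hm hF P).2.1] at h1
    omega
  have hN : s ∣ Nat.card (normalizer ((P : Subgroup ↥(Cfsg.Sz F m)) : Set ↥(Cfsg.Sz F m))) := by
    have h1 := card_mul_index (normalizer ((P : Subgroup ↥(Cfsg.Sz F m)) : Set ↥(Cfsg.Sz F m)))
    rw [show (normalizer ((P : Subgroup ↥(Cfsg.Sz F m)) : Set ↥(Cfsg.Sz F m))).index = _ from
      P.card_eq_index_normalizer.symm, a3, a4, add_comm, mul_comm (_ + 1), ← mul_assoc] at h1
    rw [Nat.eq_of_mul_eq_mul_right (Nat.succ_pos _) h1]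
    exact ((s1 _).2 dvd_rfl).mul_left _
  obtain ⟨x, hx⟩ := exists_prime_orderOf_dvd_card' s hN
  have hx1 : orderOf (x : ↥(Cfsg.Sz F m)) = s := by rw [Subgroup.orderOf_coe, hx]
  have hs2 : s ≠ 2 := fun e => s2 (e ▸ dvd_rfl)
  refine ⟨W, x, s, fun y hy => ⟨hP hy, hA.2 y hy⟩, elemAb_of (fun a ha b hb => hc a ha.1 b hb.1 ha.2 hb.2)
    fun a ha => ha.2, ?_, hs, hs2, s1, hx1 ▸ pow_orderOf_eq_one _, mem_normalizer_iff.2 fun w => ?_,
    fun w hw h => H452.FprSz.sz_fpf hm hF hs hs2 hx1 P hw.1 h⟩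
  · rw [mul_comm 2, pow_mul, ← a1 P]
    exact lt_of_le_of_ne (card_le_of_le hW.le) fun h => hW.ne (eq_of_le_of_card_ge hW.le h.ge)
  · refine and_congr (mem_normalizer_iff.1 x.2 w) ?_
    rw [conj_pow, conj_eq_one_iff]

end Sz

/-- **the Suzuki groups in characteristic two** -/
theorem row_Sz (S : Type) [Group S] (h : Lie.IsoSuzuki S) : Row 2 S := by
  obtain ⟨F, iF, iF', m, hm, hF, ⟨e⟩⟩ := h
  obtain ⟨f⟩ := OddCyclic.ClaimC.SzIso.iso (F := F) hm hF
  exact (Sz.dat hm hF ((H548.Crit.card_out_congr f).trans (S2126.result hm hF))).row.of_equiv (e.trans f.symm)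

end Cfsg.Agent.TwoF.DC.TC
end

-- part: TwoF/XL/Defs_mg
section
set_option linter.all false
open scoped Cfsg.Agent.FastGrp

-- part: TwoF/XL/Defs
section
/-!
# TwoF / XL: linear and unitary groups in cross characteristic, the small rows (helper85).  Plan: `notes/TwoF/xl.md`
-/

set_option autoImplicit false

namespace Cfsg.Agent.TwoF.XL

/-- `L₃(3)`, `L₃(5)`, `L₄(3)`, `p = 2` -/
def LP2 : Prop :=
  ∀ (F : Type) [Field F] [Fintype F] (n : ℕ),
    (n = 3 ∧ (Fintype.card F = 3 ∨ Fintype.card F = 5)) ∨ (n = 4 ∧ Fintype.card F = 3) →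
      Row 2 (Matrix.ProjectiveSpecialLinearGroup (Fin n) F)

/-- `U₃(3)`, `U₃(5)`, `U₃(7)`, `U₅(3)`, `p = 2` -/
def UP2 : Prop :=
  ∀ (F : Type) [Field F] [Fintype F] (n q : ℕ), Fintype.card F = q ^ 2 →
    (n = 3 ∧ (q = 3 ∨ q = 5 ∨ q = 7)) ∨ (n = 5 ∧ q = 3) → Row 2 (PSU n F q)

/-- `L₂(q)`, `q` odd, `p = 2` -/
def LTwo : Prop :=
  ∀ (F : Type) [Field F] [Fintype F], Odd (Fintype.card F) → 11 ≤ Fintype.card F → Fintype.card F ≤ 81 →
    Row 2 (Matrix.ProjectiveSpecialLinearGroup (Fin 2) F)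

/-- `L₂(8)`, `L₃(4)`, `L₆(2)`, `p = 3` -/
def LP3 : Prop :=
  ∀ (F : Type) [Field F] [Fintype F] (n : ℕ),
    (n = 2 ∧ Fintype.card F = 8) ∨ (n = 3 ∧ Fintype.card F = 4) ∨ (n = 6 ∧ Fintype.card F = 2) →
      Row 3 (Matrix.ProjectiveSpecialLinearGroup (Fin n) F)

/-- `U₃(4)`, `p = 5`, and `U₃(5)`, `p = 3` -/
def UP3 : Prop :=
  ∀ (p : ℕ) [Fact p.Prime] (F : Type) [Field F] [Fintype F] (q : ℕ), Fintype.card F = q ^ 2 →
    (q = 4 ∧ p = 5) ∨ (q = 5 ∧ p = 3) → Row p (PSU 3 F q)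

/-- `U₄(3)`, `p = 2` -/
def UFour : Prop := ∀ (F : Type) [Field F] [Fintype F], Fintype.card F = 3 ^ 2 → Row 2 (PSU 4 F 3)

/-- `Uₙ(2)`, `p = 3` -/
def UTwo : Prop :=
  ∀ (F : Type) [Field F] [Fintype F] (n : ℕ), Fintype.card F = 2 ^ 2 → 5 ≤ n → n ≤ 8 → Row 3 (PSU n F 2)

/-- the small rows -/
structure Small : Prop where
  lp2 : LP2
  up2 : UP2
  ltwo : LTwo
  lp3 : LP3
  up3 : UP3
  ufour : UFour
  utwo : UTwo

/-- the two boxes -/
structure Two : Prop where
  psl : Box fun K _ => IsPSL K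
  psu : Box fun K _ => IsPSU K

/-- the reduction -/
def Red : Prop := Small → Two

end Cfsg.Agent.TwoF.XL
end

-- part: TwoF/XL/Rch
section
/-!
# TwoF / XL: how many conjugates of an automorphism of prime order generate (helper1)

Extracted from the proof of `S4327`.
-/

set_option autoImplicit false

namespace Cfsg.Agent.TwoF.XL

open Cfsg Module Cfsg.Agent.H915.Gs

section Lin

open Cfsg.Agent.H199.PslAut (Psi)

variable {F : Type*} [Field F] [Fintype F] {n : ℕ}

theorem reach_lin (hn : 3 ≤ n) {g : GL (Fin n) F} (hg : Psi n F g ≠ 1) : Reach (Psi n F g) (n + 1) ⊤ :=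
  H974.Gs.reach_psi (H974.Gs.certs F) hn hg

theorem reach_nonlin (hn : 3 ≤ n) {x : MulAut (Matrix.ProjectiveSpecialLinearGroup (Fin n) F)}
    (hx : (orderOf x).Prime) : (∃ g : GL (Fin n) F, x = Psi n F g) ∨ Reach x 11 ⊤ := H453.Gs.nonlin hn x hx

theorem reach_L (hn : 3 ≤ n) (h10 : n ≤ 10) {x : MulAut (Matrix.ProjectiveSpecialLinearGroup (Fin n) F)}
    (hx : (orderOf x).Prime) : Reach x 11 ⊤ := by
  rcases reach_nonlin hn hx with ⟨g, rfl⟩ | h
  · refine (reach_lin hn fun e => ?_).mono (by omega) (by omega)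
    rw [e, orderOf_one] at hx
    exact Nat.not_prime_one hx
  · exact h

end Lin

section Uni

open Cfsg.Agent.H91.U Cfsg.Agent.H450.UF Cfsg.Agent.H937.Gs Cfsg.Agent.H929.Gs
open Cfsg.Agent.H405.Gs (TS Nd Tr)
open Cfsg.Agent.H519.Gs (Bad)
open Cfsg.Agent.H77.Witt (formB)
open Cfsg.Agent.LieClassical.HermBasic Cfsg.Agent.LieClassical.HermSiegel

section

variable {F V : Type*} [Field F] [AddCommGroup V] [Module F V] {σ : F →+* F} {B : V →ₛₗ[σ] V →ₗ[F] F}
  {a : MulAut (SIso B)} {g : V → V} {τ : F →+* F}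

theorem reach_bad [Fintype F] [FiniteDimensional F V] {q : ℕ} (hF : Fintype.card F = q ^ 2) (hB : HForm B)
    (hn : 3 ≤ finrank F V) (htop : TS B (⊤ : Submodule F V) = ⊤) (hb : Bad B a g) :
    4 ≤ finrank F V ∧ Reach a (finrank F V + 2) ⊤ := by
  have hfix := card_fix hF hB
  have hq2 : 2 ≤ q := two_le hF
  have hcard : ∀ k : ℕ, q = k → Nat.card F = k ^ 2 := fun k hk => by rw [Nat.card_eq_fintype_card, hF, hk]
  have hn4 := hb.four_le hB hn
  have h6 : ∃ A : Submodule F V, Nd B A ∧ finrank F A = 4 ∧ Reach a 6 (TS B A) := by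
    by_cases h4 : 4 ≤ q
    · exact hb.six hB hn (by rw [hfix]; exact h4)
    · rcases (show q = 2 ∨ q = 3 by omega) with h | h
      · exact bad2 hb hB hn4 (hcard 2 h)
      · exact bad3 hb hB hn4 (hcard 3 h)
  exact ⟨hn4, (hb.main hB hn h6 htop).2.2⟩

theorem reach_good [Fintype F] [FiniteDimensional F V] {q : ℕ} (hF : Fintype.card F = q ^ 2) (hB : HForm B)
    (hn : 3 ≤ finrank F V) (h32 : ¬ (finrank F V = 3 ∧ q = 2)) (h42 : ¬ (finrank F V = 4 ∧ q = 2))
    (htop : TS B (⊤ : Submodule F V) = ⊤) (hs : Sim B a g τ) (hst : 4 ≤ q → q ≠ 5 → Start B a g) {v : V}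
    (hv : B v v = 0) (hgv : B v (g v) ≠ 0) : Reach a (finrank F V + 1) ⊤ := by
  have hfix := card_fix hF hB
  have hq2 : 2 ≤ q := two_le hF
  have hcard : ∀ k : ℕ, q = k → Nat.card F = k ^ 2 := fun k hk => by rw [Nat.card_eq_fintype_card, hF, hk]
  by_cases h2 : q = 2
  · exact top2 hs hB (hcard 2 h2) (by omega) hv hgv htop
  · by_cases h35 : q = 3 ∨ q = 5
    · refine top35 hs hB ?_ hn hv hgv
      rcases h35 with h | h
      · exact Or.inl (hcard 3 h)
      · exact Or.inr (hcard 5 h)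
    · have hr := hst (by omega) (by omega) v hv hgv
      have hq : ∃ s : F, σ s = s ∧ s ≠ 0 ∧ s ≠ 1 := H519.Gs.exists_fixed_scalar (by rw [hfix]; omega)
      have h1 := H405.Gs.reach_top hB hs (surj_of_finite τ) hv hgv hq hr
      rwa [show 3 + (finrank F V - 2) = finrank F V + 1 by omega] at h1

end

variable {F : Type} [Field F] [Fintype F] {n q : ℕ}

/-- `n + 1` conjugates, or `n + 2` conjugates for some involutions if `n ≥ 4` -/
theorem reach_U (hF : Fintype.card F = q ^ 2) (hn : 3 ≤ n) (h32 : ¬ (n = 3 ∧ q = 2)) (h42 : ¬ (n = 4 ∧ q = 2))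
    {x : MulAut (PSU n F q)} (hx : (orderOf x).Prime) :
    Reach x (n + 1) ⊤ ∨ (orderOf x = 2 ∧ 4 ≤ n ∧ Reach x (n + 2) ⊤) := by
  have hfr : finrank F (Fin n → F) = n := finrank_fin_fun F
  have : NeZero n := ⟨by omega⟩
  obtain ⟨a, g, θ, h1, h3, h4, h5, h6, h7⟩ := conv hF hn h32 x
  have hB := hform hF n
  have hσ : ∀ c, ((conj hF : F ≃+* F) : F →+* F) c = c ^ q := fun c => rfl
  have hsim : Sim (formB hF n) a g (θ : F →+* F) := ⟨h3, h4, g.surjective, h5, h6⟩
  have htop := H405.Gs.TS_std_top hF h32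
  have htyp : Typ ((conj hF : F ≃+* F) : F →+* F) g (θ : F →+* F) := by
    rcases h7 hx with ⟨e1, e2⟩ | ⟨e1, e2⟩ | ⟨e1, e2, s, e3, e4⟩
    · exact Or.inl ⟨fun c => by rw [e1]; rfl, e2⟩
    · exact Or.inr (Or.inl fun c => by rw [hσ]; exact e1 c)
    · right; right
      obtain ⟨m, hm⟩ := hx.odd_of_ne_two e2
      refine ⟨⟨m, fun c => ?_⟩, s, by rw [hσ]; exact e3, e4⟩
      rw [iterate_eq, ← hm, ← e1, pow_orderOf_eq_one]
      rfl
  have good : ∀ v, formB hF n v v = 0 → formB hF n v (g v) ≠ 0 → Reach x (n + 1) ⊤ := fun v hv hgv => by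
    have h := reach_good hF hB (by rw [hfr]; exact hn) (by rw [hfr]; exact h32) (by rw [hfr]; exact h42) htop hsim
      (fun h4 h5 v hv hgv => by
        obtain ⟨m, hm⟩ := htyp.oddFix
        exact H405.Gs.start4 hF h4 h5 hB hsim hv hgv (n := 2 * m + 1) ⟨m, rfl⟩ hm) hv hgv
    rw [hfr] at h
    exact h.transfer_top (H450.UF.pi_surjective hF n) h1
  rcases h7 hx with ⟨e1, e2⟩ | ⟨e1, e2⟩ | ⟨e1, e2, s, e3, e4⟩
  · obtain ⟨v, hv, hgv⟩ := exists_iso_lin hB (by omega) hsim.add (fun c x => by rw [hsim.smul, e1]; rfl) e2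
    exact Or.inl (good v hv hgv)
  · rcases htyp.bad_or hB (by omega) hsim with hb | ⟨v, hv, hgv⟩
    · have h := reach_bad hF hB (by omega) htop hb
      rw [hfr] at h
      exact Or.inr ⟨e2, h.1, h.2.transfer_top (H450.UF.pi_surjective hF n) h1⟩
    · exact Or.inl (good v hv hgv)
  · obtain ⟨v, hv, hgv⟩ := exists_iso_semi hB (by omega) hsim.add hsim.smul hsim.surj ⟨s, by rw [hσ]; exact e3, e4⟩
    exact Or.inl (good v hv hgv)

theorem reach_U' (hF : Fintype.card F = q ^ 2) (hn : 3 ≤ n) (h32 : ¬ (n = 3 ∧ q = 2)) (h42 : ¬ (n = 4 ∧ q = 2))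
    {x : MulAut (PSU n F q)} (hx : (orderOf x).Prime) : Reach x (n + 2) ⊤ := by
  rcases reach_U hF hn h32 h42 hx with h | h
  · exact h.mono (by omega) (by omega)
  · exact h.2.2

theorem reach_U3 (hF : Fintype.card F = q ^ 2) (h2 : q ≠ 2) {x : MulAut (PSU 3 F q)} (hx : (orderOf x).Prime) :
    Reach x 4 ⊤ := by
  rcases reach_U hF le_rfl (fun h => h2 h.2) (by omega) hx with h | h
  · exact h
  · omega

end Uni

end Cfsg.Agent.TwoF.XL
end
end
end
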